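import Cfsg.Agent.Lib.Co1Cent.Main

/-!
# Uniqueness of the first Conway group: the interfaces

The frame stabiliser `N1` and the centraliser `C1` of `z1` in the model, and maps of the two into a group.
See `notes/s1718_co1_uniqueness_helper31.md`.

Owner: helper31.
-/

set_option autoImplicit false

namespace Cfsg.Agent.Lib.Co1Uniq31

open Cfsg Cfsg.Agent.Lib.Leech Cfsg.Agent.Lib.LeechMod2 Cfsg.Agent.Lib.Co1Cent

/-- The stabiliser of the standard cross. -/
noncomputable def N1 : Subgroup Spor.Co1 := crossGroup.map Frame.bar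

variable {G : Type*} [Group G]

/-- An embedding of the frame stabiliser matched with the centraliser data. -/
structure NEmb (z : G) (Q : Subgroup G) (ι : N1 →* G) : Prop where
  inj : Function.Injective ι
  map_z : ∀ h : z1 ∈ N1, ι ⟨z1, h⟩ = z
  q_le : ∀ q : C1, q ∈ Q1 → (q : Spor.Co1) ∈ N1
  map_Q : ∀ g : G, g ∈ Q ↔ ∃ q : C1, ∃ h : (q : Spor.Co1) ∈ N1, q ∈ Q1 ∧ ι ⟨q, h⟩ = g

/-- Compatible embeddings of the frame stabiliser and the centraliser. -/
structure Glue (z : G) (ιN : N1 →* G) (ιC : C1 →* G) : Prop where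
  injN : Function.Injective ιN
  injC : Function.Injective ιC
  agree : ∀ (g : Spor.Co1) (hN : g ∈ N1) (hC : g ∈ C1), ιN ⟨g, hN⟩ = ιC ⟨g, hC⟩
  rangeC : ιC.range = Subgroup.centralizer ({z} : Set G)
  map_z : ∀ h : z1 ∈ C1, ιC ⟨z1, h⟩ = z

end Cfsg.Agent.Lib.Co1Uniq31
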