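/-!
Data for the relations at the standard edge (generated by `edata.py`, helper31).
-/

set_option autoImplicit false

namespace Cfsg.Agent.Lib.Co1Uniq31

/-- The labels of the standard sextet. -/
def sextCode : Nat := 409903395717677896192

/-- The six tetrads. -/
def tets : List Nat := [8388615, 147496, 268544, 1082880, 2621632, 4268048]

/-- The indices of the points of the six tetrads. -/
def tetPts : List (List Nat) := [[0, 1, 2, 23], [3, 5, 14, 17], [8, 11, 12, 18], [9, 10, 15, 20], [6, 7, 19, 21], [4, 13, 16, 22]]

/-- The octad. -/
def octMask : Nat := 8536111

/-- Two permutations commuting with the sextet map and one fixing the octad. -/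
def edgePerms : List (Nat × Nat) := [(66908077099253530644127961955327040, 103091307078819537056987566434387680), (973813774342950007984482378759570496, 978998456407300464788159670472049728), (229204389144811708400892740087331363, 587073579758475929327721976531272867)]

/-- For each ordered pair of tetrads a product carrying the octad to their union. -/
def edgeWords : List (List Nat) := [[], [0], [1], [0, 1, 0], [1, 0], [], [0, 2, 0], [2, 1], [2, 0], [2, 1, 0], [0], [0, 2, 0], [1, 2, 1], [0, 2, 1, 0], [0, 2, 1], [1], [2, 1], [1, 2, 1], [1, 2, 0], [1, 0, 2, 0], [0, 1, 0], [2, 0], [0, 2, 1, 0], [1, 2, 0], [2, 0, 2, 1], [1, 0], [2, 1, 0], [0, 2, 1], [1, 0, 2, 0], [2, 0, 2, 1]]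

/-- A sign change odd on the first tetrad. -/
def flipMask : Nat := 5279

/-- The monomial closing the relation with the sign change. -/
def flipTail : Nat × Nat × Nat := (16771936, 984818244535754528103549039458486304, 984818244535754528103549039458486304)

/-- Octads, even on each tetrad, separating the points. -/
def sepOctads : List Nat := [10558, 18147, 252432, 792232, 3736597, 5350928]

end Cfsg.Agent.Lib.Co1Uniq31
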