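import Cfsg.Agent.Lib.Co1Mult.Words
import Cfsg.Agent.Lib.LeechMod2.Frame

/-!
# Coded neighbours of the standard cross

A neighbour is given by six masks and a parity: its vectors have four entries `±4` on one of the masks, the
number of negative entries having the given parity.

Owner: helper31.
-/

set_option autoImplicit false

namespace Cfsg.Agent.Lib.Co1Uniq31

open Cfsg Cfsg.Agent.Lib.Leech Cfsg.Agent.Lib.Golay Cfsg.Agent.Lib.Co3Model
open Cfsg.Agent.Lib.Computation (getW mulP decodeP decodeP_apply)

/-- The entries off the mask vanish, those on it are `±4`. -/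
def Supp (m : ℕ) (L : List ℤ) : Prop :=
  ∀ i < 24, if m.testBit i then ent L i = 4 ∨ ent L i = -4 else ent L i = 0

/-- The parity of the number of negative entries. -/
def negPar (L : List ℤ) : ZMod 2 := ∑ i : Fin 24, if ent L i < 0 then 1 else 0

/-- A vector of a coded neighbour. -/
def Fit (six : List ℕ) (p : ℕ) (L : List ℤ) : Prop :=
  (∃ m ∈ six, Supp m L) ∧ negPar L = (p : ZMod 2)

/-- The word of a monomial element. -/
def monW (c q qi : ℕ) : List Op := [.sign c, .perm q qi]

/-- The list evaluated, for the kernel. -/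
def forceList {α : Sort*} : List ℕ → (List ℕ → α) → α
  | [], k => k []
  | a :: l, k => Computation.forceNat a fun a => forceList l fun l => k (a :: l)

theorem forceList_eq {α : Sort*} : ∀ (l : List ℕ) (k : List ℕ → α), forceList l k = k l
  | [], _ => rfl
  | a :: l, k => by rw [forceList, Computation.forceNat_eq, forceList_eq l]

/-- Membership with the element evaluated first. -/
def memF (x : ℕ) (l : List ℕ) : Bool := Computation.forceNat x fun x => l.any fun y => Nat.beq x y

theorem memF_iff {x : ℕ} {l : List ℕ} : memF x l = true ↔ x ∈ l := by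
  simp [memF, Computation.forceNat_eq]

/-- `permMask` with raw operations, for the kernel. -/
def permMaskF (q m : ℕ) : ℕ :=
  Nat.rec 0 (fun i acc => bif Nat.beq (Nat.mod (Nat.shiftRight m i) 2) 1
    then Nat.lor acc (Nat.shiftLeft 1 (Nat.mod (Nat.shiftRight q (Nat.mul 5 i)) 32)) else acc) 24

theorem permMaskF_eq (q m : ℕ) : permMaskF q m = permMask q m := by
  unfold permMaskF permMask
  generalize (24 : ℕ) = k
  induction k with
  | zero => rfl
  | succ i ih =>
    have e : Nat.beq (Nat.mod (Nat.shiftRight m i) 2) 1 = m.testBit i := by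
      rw [Bool.eq_iff_iff, Nat.beq_eq, Nat.testBit_eq_decide_div_mod_eq, decide_eq_true_eq]
      show (m >>> i) % 2 = 1 ↔ _
      rw [Nat.shiftRight_eq_div_pow]
    simp only [ih, e]
    show (bif m.testBit i then _ ||| 1 <<< ((q >>> (5 * i)) % 32) else _) = _
    rw [Nat.one_shiftLeft]
    rfl

/-- The check that a monomial element carries one coded neighbour to another. -/
def fitMaps (c q qi : ℕ) (s : List ℕ) (p : ℕ) (s' : List ℕ) (p' : ℕ) : Bool :=
  Computation.forceNat c fun c => Computation.forceNat q fun q => Computation.forceNat qi fun qi =>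
  forceList s fun s => forceList s' fun s' =>
  (s.all fun m => memF (permMaskF q m) s') &&
    (s'.all fun m' => memF (permMaskF qi m') s && Nat.beq ((p + pc24 (c &&& m')) % 2) (p' % 2) &&
      Nat.blt m' (2 ^ 24)) && s.all fun m => Nat.blt m (2 ^ 24)

theorem pc24_sum (m : ℕ) : (pc24 m : ZMod 2) = ∑ i : Fin 24, if m.testBit i then 1 else 0 := by
  rw [← card_setOfMask, Finset.sum_boole]
  congr 1
  refine Finset.card_bij' (fun p _ => ptEquiv.symm p) (fun i _ => ptEquiv i) ?_ ?_ ?_ ?_
  · intro p hp
    rw [mem_setOfMask] at hp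
    simp only [Finset.mem_filter, Finset.mem_univ, true_and, ptEquiv_symm_apply]
    exact hp
  · intro i hi
    simp only [Finset.mem_filter, Finset.mem_univ, true_and] at hi
    rw [mem_setOfMask, ptEquiv_apply, idx_pt i.isLt]
    exact hi
  · intro p _; exact ptEquiv.apply_symm_apply p
  · intro i _; exact ptEquiv.symm_apply_apply i

theorem testBit_permMask {q m j : ℕ} :
    (permMask q m).testBit j = true ↔ ∃ i < 24, m.testBit i = true ∧ getW 5 q i = j :=
  testBit_permMask_aux (c := q) (m := m) (j := j) (k := 24)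

theorem inv_codes {q qi : ℕ} (h : (Op.perm q qi).ok = true) :
    okCode q = true ∧ okCode qi = true ∧ (∀ i < 24, getW 5 q (getW 5 qi i) = i) ∧
      ∀ i < 24, getW 5 qi (getW 5 q i) = i := by
  simp only [Op.ok, Bool.and_eq_true, Nat.beq_eq] at h
  obtain ⟨⟨hq, hqi⟩, hm⟩ := h
  have hq' := okCode_of_inM24 hq
  have e : decodeP 24 5 q * decodeP 24 5 qi = 1 := by
    rw [← Computation.decodeP_mulP hq' hqi, hm]
    exact indexHom.injective (by rw [map_one]; exact gperm_oneCode)
  have e2 := mul_eq_one_comm.1 e
  refine ⟨hq', hqi, fun i hi => ?_, fun i hi => ?_⟩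
  · have := congrArg (fun σ : Equiv.Perm (Fin 24) => (σ ⟨i, hi⟩ : ℕ)) e
    simp only [Equiv.Perm.mul_apply, Equiv.Perm.one_apply, decodeP_apply hq', decodeP_apply hqi] at this
    exact this
  · have := congrArg (fun σ : Equiv.Perm (Fin 24) => (σ ⟨i, hi⟩ : ℕ)) e2
    simp only [Equiv.Perm.mul_apply, Equiv.Perm.one_apply, decodeP_apply hq', decodeP_apply hqi] at this
    exact this

theorem ent_monW {c q qi : ℕ} (L : List ℤ) {i : ℕ} (hi : i < 24) (_hqi : getW 5 qi i < 24) :
    ent (appWord (monW c q qi) L) i = if c.testBit i then -ent L (getW 5 qi i) else ent L (getW 5 qi i) := by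
  simp only [monW, appWord, Op.app]
  simp [ent, List.getD_eq_getElem?_getD, hi]

theorem fit_monW {c q qi : ℕ} {s s' : List ℕ} {p p' : ℕ} (hok : (Op.perm q qi).ok = true)
    (h : fitMaps c q qi s p s' p' = true) (L : List ℤ) :
    Fit s' p' (appWord (monW c q qi) L) ↔ Fit s p L := by
  simp only [fitMaps, permMaskF_eq, Computation.forceNat_eq, forceList_eq, Bool.and_eq_true, List.all_eq_true, memF_iff, Nat.beq_eq, Nat.blt_eq] at h
  obtain ⟨⟨hf, hb⟩, hlt⟩ := h
  obtain ⟨hq, hqi, hqq, hqq'⟩ := inv_codes hok
  have hsupp : ∀ m, Supp m L → Supp (permMask q m) (appWord (monW c q qi) L) := by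
    intro m hm i hi
    have hk := Golay.getW_lt hqi hi
    have hbit : (permMask q m).testBit i = m.testBit (getW 5 qi i) := by
      rw [Bool.eq_iff_iff, testBit_permMask]
      exact ⟨fun ⟨k, hk', hk1, hk2⟩ => by rw [← hk2, hqq' k hk']; exact hk1,
        fun hb' => ⟨_, hk, hb', hqq i hi⟩⟩
    have := hm _ hk
    rw [ent_monW L hi hk, hbit]
    cases hb1 : m.testBit (getW 5 qi i) <;> rw [hb1] at this <;> simp only [Bool.false_eq_true, if_false,
      if_true] at this ⊢
    · split_ifs <;> simp [this]
    · split_ifs <;> rcases this with e | e <;> simp [e]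
  have hback : ∀ m', Supp m' (appWord (monW c q qi) L) → Supp (permMask qi m') L := by
    intro m' hm i hi
    have hk := Golay.getW_lt hq hi
    have hbit : (permMask qi m').testBit i = m'.testBit (getW 5 q i) := by
      rw [Bool.eq_iff_iff, testBit_permMask]
      exact ⟨fun ⟨k, hk', hk1, hk2⟩ => by rw [← hk2, hqq k hk']; exact hk1,
        fun hb' => ⟨_, hk, hb', hqq' i hi⟩⟩
    have := hm _ hk
    rw [ent_monW L hk (Golay.getW_lt hqi hk), hqq' i hi] at this
    rw [hbit]
    cases hb1 : m'.testBit (getW 5 q i) <;> rw [hb1] at this <;> simp only [Bool.false_eq_true, if_false,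
      if_true] at this ⊢
    · split_ifs at this <;> omega
    · split_ifs at this <;> omega
  have hpar : ∀ m', Supp m' (appWord (monW c q qi) L) →
      negPar (appWord (monW c q qi) L) = negPar L + (pc24 (c &&& m') : ZMod 2) := by
    intro m' hm
    let e : Equiv.Perm (Fin 24) := decodeP 24 5 qi
    have he : negPar L = ∑ i : Fin 24, if ent L (getW 5 qi i) < 0 then (1 : ZMod 2) else 0 := by
      rw [negPar, ← Equiv.sum_comp e]
      refine Finset.sum_congr rfl fun i _ => ?_
      rw [decodeP_apply hqi]
    rw [pc24_sum, he, negPar, ← Finset.sum_add_distrib]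
    refine Finset.sum_congr rfl fun i _ => ?_
    have := hm i i.isLt
    rw [ent_monW L i.isLt (Golay.getW_lt hqi i.isLt)] at this ⊢
    rw [Nat.testBit_and]
    cases hc : c.testBit i <;> cases hm' : m'.testBit i <;> rw [hc, hm'] at this <;>
      simp only [Bool.false_eq_true, if_false, if_true, Bool.and_true, Bool.and_false] at this ⊢
    · simp
    · simp
    · rw [if_neg (by omega), if_neg (by omega)]; simp
    · rcases this with e' | e'
      · rw [if_neg (by omega), if_pos (by omega)]; decide
      · rw [if_pos (by omega), if_neg (by omega)]; decide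
  have hparP : ∀ m', m' ∈ s' → ((p : ZMod 2) + (pc24 (c &&& m') : ZMod 2) = (p' : ZMod 2)) := by
    intro m' hm
    rw [← Nat.cast_add, ← ZMod.natCast_mod (p + _), (hb m' hm).1.2, ZMod.natCast_mod]
  constructor
  · rintro ⟨⟨m', hm', hs⟩, hp⟩
    refine ⟨⟨_, (hb m' hm').1.1, hback m' hs⟩, ?_⟩
    rw [hpar m' hs, ← hparP m' hm'] at hp
    exact add_right_cancel hp
  · rintro ⟨⟨m, hm, hs⟩, hp⟩
    refine ⟨⟨_, hf m hm, hsupp m hs⟩, ?_⟩
    rw [hpar _ (hsupp m hs), hp]
    exact hparP _ (hf m hm)

/-- An automorphism carries one coded neighbour to another. -/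
def Maps (g : Co0) (s : List ℕ) (p : ℕ) (s' : List ℕ) (p' : ℕ) : Prop :=
  ∀ v : leechLattice, Fit s' p' (lv (g • v)) ↔ Fit s p (lv v)

theorem Maps.mul {g h : Co0} {s s' s'' : List ℕ} {p p' p'' : ℕ} (hg : Maps g s' p' s'' p'')
    (hh : Maps h s p s' p') : Maps (g * h) s p s'' p'' := fun v => by
  rw [mul_smul]; exact (hg _).trans (hh v)

theorem Maps.inv {g : Co0} {s s' : List ℕ} {p p' : ℕ} (hg : Maps g s p s' p') : Maps g⁻¹ s' p' s p := fun v => by
  have := hg (g⁻¹ • v)
  rw [smul_inv_smul] at this
  exact this.symm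

theorem maps_one (s : List ℕ) (p : ℕ) : Maps 1 s p s p := fun v => by rw [one_smul]

theorem maps_monW {c q qi : ℕ} {s s' : List ℕ} {p p' : ℕ} (hok : (monW c q qi).all Op.ok = true)
    (h : fitMaps c q qi s p s' p' = true) : Maps (wordElt (monW c q qi)) s p s' p' := fun v => by
  rw [lv_word hok]
  refine fit_monW ?_ h _
  simp only [monW, List.all_cons, List.all_nil, Bool.and_true, Bool.and_eq_true] at hok
  exact hok.2

theorem monW_mem_cross (c q qi : ℕ) : wordElt (monW c q qi) ∈ crossGroup := by
  have hperm : (Op.perm q qi).elt ∈ crossGroup := by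
    simp only [Op.elt]
    split_ifs
    · exact LeechMod2.Frame.permHom_mem_cross _
    · exact one_mem _
  have hsign : (Op.sign c).elt ∈ crossGroup := by
    simp only [Op.elt]
    split_ifs
    · exact LeechMod2.Frame.diag_le_cross (LeechMod2.Frame.flip_mem_diag _ _)
    · exact one_mem _
  rw [show wordElt (monW c q qi) = (Op.sign c).elt * ((Op.perm q qi).elt * 1) from rfl, mul_one]
  exact mul_mem hsign hperm

end Cfsg.Agent.Lib.Co1Uniq31
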