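import Cfsg.Agent.Lib.Co1Uniq31.Setting
import Cfsg.Agent.Lib.Co1Uniq31.Fit
import Cfsg.Agent.Lib.Co1Uniq31.EdgeData

/-!
# Elements commuting with separating sign changes, and the standard neighbour

An element of the quotient commuting with the sign changes on octads separating the points is a sign change;
the vectors of the standard coded neighbour are the images of the axes under the sextet map.

Owner: helper31.
-/

set_option autoImplicit false

namespace Cfsg.Agent.Lib.Co1Uniq31

open Cfsg Cfsg.Agent.Lib.Leech Cfsg.Agent.Lib.Golay Cfsg.Agent.Lib.Co3Model Cfsg.Agent.Lib.LeechMod2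
open Cfsg.Agent.Lib.Co1Mult.Words (axisL lv_eightE)

theorem no_anticommute {c : Finset GolayPt} (hc : IsCode c) (h8 : c.card = 8) {g : Co0}
    (e : g * flip c hc = flip c hc * g * negOne) : False := by
  have hon : ∀ p, p ∉ c → ∀ q, q ∉ c → vec (g • eightE p) q = 0 := by
    intro p hp q hq
    have h1 : flip c hc • eightE p = eightE p := by
      apply Subtype.ext
      funext k
      show vec (flip c hc • eightE p) k = vec (eightE p) k
      rw [flip_smul]
      split_ifs with hk
      · rw [eightE_apply, if_neg (fun h' : k = p => hp (h' ▸ hk))]; rfl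
      · rfl
    have h2 := congrArg (fun x : Co0 => vec (x • eightE p) q) e
    simp only [mul_smul, h1, negOne_smul, smul_neg'] at h2
    have h3 : vec (-(flip c hc • g • eightE p)) q = -vec (flip c hc • g • eightE p) q := rfl
    rw [h3, flip_smul, if_neg hq] at h2
    omega
  have key : ∀ q, ∑ p, vec (g • eightE p) q ^ 2 = 64 := fun q => by
    simp only [Co1Cent.entry_symm g _ q]
    exact (norm_smul' g⁻¹ (eightE q)).trans (sqNorm_eightE q)
  have hsum : ∑ p ∈ cᶜ, ∑ q ∈ c, vec (g • eightE p) q ^ 2 = 16 * 64 := by
    rw [Finset.sum_congr rfl fun p hp => show ∑ q ∈ c, vec (g • eightE p) q ^ 2 = 64 from ?_]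
    · rw [Finset.sum_const, Finset.card_compl, h8, Golay.card_golayPt]
      norm_num
    · refine Eq.trans ?_ ((norm_smul' g (eightE p)).trans (sqNorm_eightE p))
      exact Finset.sum_subset (Finset.subset_univ c) fun q _ hq => by
        rw [hon p (Finset.mem_compl.1 hp) q hq]; rfl
  have hle : ∑ p ∈ cᶜ, ∑ q ∈ c, vec (g • eightE p) q ^ 2 ≤ ∑ p, ∑ q ∈ c, vec (g • eightE p) q ^ 2 :=
    Finset.sum_le_sum_of_subset_of_nonneg (Finset.subset_univ _)
      fun p _ _ => Finset.sum_nonneg fun i _ => sq_nonneg _
  rw [hsum, Finset.sum_comm] at hle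
  simp only [key, Finset.sum_const, h8] at hle
  norm_num at hle

theorem sepOctads_ok : (sepOctads.all fun m => inCode m && Nat.beq (pc24 m) 8) = true ∧
    ((List.range 24).all fun i => (List.range 24).all fun k =>
      Nat.beq i k || sepOctads.any fun m => m.testBit i != m.testBit k) = true := by
  constructor <;> decide +kernel

/-- An element commuting with the separating sign changes is a sign change. -/
theorem mem_diagBar {d : Spor.Co1}
    (h : ∀ m ∈ sepOctads, ∀ hm : inCode m = true,
      Commute d (Frame.bar (flip (setOfMask m) (isCode_setOfMask hm)))) : d ∈ Frame.diagBar := by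
  obtain ⟨g, rfl⟩ := Frame.bar_surjective d
  obtain ⟨hok, hsep⟩ := sepOctads_ok
  simp only [List.all_eq_true, Bool.and_eq_true, Nat.beq_eq, List.mem_range, Bool.or_eq_true,
    List.any_eq_true, bne_iff_ne] at hok hsep
  refine ⟨g, fun i => ?_, rfl⟩
  have hcomm : ∀ m (hm : m ∈ sepOctads), g * flip (setOfMask m) (isCode_setOfMask (hok m hm).1) =
      flip (setOfMask m) (isCode_setOfMask (hok m hm).1) * g := by
    intro m hm
    have e := (h m hm (hok m hm).1).eq
    rw [← map_mul, ← map_mul] at e
    set f := flip (setOfMask m) (isCode_setOfMask (hok m hm).1)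
    have hc : (f * g)⁻¹ * (g * f) ∈ Subgroup.center Co0 := by
      rw [← Frame.bar_eq_one, map_mul, map_inv, e, inv_mul_cancel]
    rcases center_co0_eq hc with e' | e'
    · exact (inv_mul_eq_one.1 e').symm
    · exact (no_anticommute _ (by rw [card_setOfMask, (hok m hm).2]) (inv_mul_eq_iff_eq_mul.1 e')).elim
  have hz : ∀ q, q ≠ i → vec (g • eightE i) q = 0 := by
    intro q hq
    obtain e | ⟨m, hm, hne⟩ := hsep (idx q) (idx_lt q) (idx i) (idx_lt i)
    · exact absurd (idx_injective e) hq
    have hfi : flip (setOfMask m) (isCode_setOfMask (hok m hm).1) • eightE i =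
        if i ∈ setOfMask m then -eightE i else eightE i := by
      show monomial 1 _ _ _ • eightE i = _
      rw [monomial_apply_eightE, Equiv.Perm.one_apply]
    have h2 := congrArg (fun x : Co0 => vec (x • eightE i) q) (hcomm m hm)
    simp only [mul_smul, hfi, flip_smul] at h2
    simp only [mem_setOfMask] at h2
    by_cases h3 : m.testBit (idx i) = true <;> by_cases h4 : m.testBit (idx q) = true
    · exact absurd (h4.trans h3.symm) hne
    · rw [if_pos h3, if_neg h4, smul_neg'] at h2
      change -vec (g • eightE i) q = vec (g • eightE i) q at h2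
      omega
    · rw [if_neg h3, if_pos h4] at h2
      omega
    · exact absurd ((Bool.eq_false_iff.2 h4).trans (Bool.eq_false_iff.2 h3).symm) hne
  have hn := (norm_smul' g (eightE i)).trans (sqNorm_eightE i)
  have hn' : vec (g • eightE i) i ^ 2 = 64 := by
    rw [← hn]
    exact (Finset.sum_eq_single (f := fun q => vec (g • eightE i) q ^ 2) i
      (fun q _ hq => by rw [hz q hq]; rfl) (fun h' => absurd (Finset.mem_univ i) h')).symm
  rcases (sq_eq_sq_iff_eq_or_eq_neg (b := (8 : ℤ))).1 (hn'.trans (by norm_num)) with e | e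
  · left
    apply Subtype.ext
    funext q
    show vec (g • eightE i) q = vec (eightE i) q
    rw [eightE_apply]
    split_ifs with hq
    · rw [hq, e]
    · exact hz q hq
  · right
    apply Subtype.ext
    funext q
    show vec (g • eightE i) q = -vec (eightE i) q
    rw [eightE_apply]
    split_ifs with hq
    · rw [hq, e]
    · rw [hz q hq]; rfl

/-! ### The sextet element and its neighbour -/

/-- The sextet element. -/
noncomputable def xi : Co0 := wordElt [.sext sextCode]

theorem xi_ok : ([Op.sext sextCode].all Op.ok) = true := by decide +kernel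

theorem xi_sq : xi * xi = 1 := by
  rw [xi, ← Co1Mult.Words.wordElt_append, ← Co1Mult.Words.wordElt_nil]
  exact Co1Mult.Words.eq_of_eqW (by decide +kernel)

theorem xi_inv : xi⁻¹ = xi := inv_eq_of_mul_eq_one_right xi_sq

theorem octMask_code : inCode octMask = true ∧ inCode (octMask ^^^ 16777215) = true := by
  constructor <;> decide +kernel

theorem octMask_set : setOfMask octMask = Co2Cent.oct ∧
    setOfMask (octMask ^^^ 16777215) = Co2Cent.octᶜ := by constructor <;> decide +kernel

theorem t0_eq : Co2Cent.t0 = wordElt [.sign (octMask ^^^ 16777215)] := by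
  rw [wordElt, List.map_singleton, List.prod_singleton, Op.elt, dif_pos octMask_code.2, Co2Cent.t0]
  simp only [octMask_set.2]

theorem xi_t0 : xi * Co2Cent.t0 = Co2Cent.t0 * xi := by
  rw [xi, t0_eq, ← Co1Mult.Words.wordElt_append, ← Co1Mult.Words.wordElt_append]
  exact Co1Mult.Words.eq_of_eqW (by decide +kernel)

/-- The image of an axis under the sextet map. -/
def axImg (i : ℕ) : List ℤ := appWord [.sext sextCode] (axisL i)

theorem lv_xi_axis {i : ℕ} (hi : i < 24) : lv (xi • eightE (pt i)) = axImg i := by
  rw [xi, lv_word xi_ok, lv_eightE hi, axImg]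

/-- The list with signs on four given points. -/
def fourL (P : List ℕ) (bs : List Bool) : List ℤ :=
  (List.range 24).map fun i => bif P.contains i then (bif bs.getD (P.idxOf i) false then -4 else 4) else 0

theorem four_axes : ∀ a < 6, ∀ b0 b1 b2 b3 : Bool, (b0 ^^ b1 ^^ b2 ^^ b3) = true →
    ∃ i < 24, axImg i = fourL (tetPts.getD a []) [b0, b1, b2, b3] ∨
      (axImg i).map (fun x => -x) = fourL (tetPts.getD a []) [b0, b1, b2, b3] := by decide +kernel

theorem tets_pts : ∀ a < 6, ∀ i < 24, ((tets.getD a 0).testBit i = (tetPts.getD a []).contains i) ∧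
    (tetPts.getD a []).length = 4 ∧ (tetPts.getD a []).Nodup := by decide +kernel

/-- The parity as a Boolean. -/
def fitB (L : List ℤ) (a : ℕ) : Bool :=
  ((List.range 24).all fun i => bif (tets.getD a 0).testBit i
    then (decide (ent L i = 4) || decide (ent L i = -4)) else decide (ent L i = 0)) &&
  (List.range 24).foldl (fun b i => xor b (decide (ent L i < 0))) false

theorem xor_par : ∀ B c : Bool, ((bif xor B c then 1 else 0 : ℕ) : ZMod 2) =
    ((bif B then 1 else 0 : ℕ) : ZMod 2) + if c then 1 else 0 := by decide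

theorem foldl_par (f : ℕ → Bool) (n : ℕ) :
    ((bif (List.range n).foldl (fun b i => xor b (f i)) false then 1 else 0 : ℕ) : ZMod 2) =
      ∑ i : Fin n, if f i then 1 else 0 := by
  induction n with
  | zero => rfl
  | succ n ih =>
    rw [List.range_succ, List.foldl_append, Fin.sum_univ_castSucc]
    simp only [List.foldl_cons, List.foldl_nil, Fin.val_castSucc, Fin.val_last]
    rw [← ih]
    exact xor_par _ _

theorem fitB_sound {L : List ℤ} {a : ℕ} (ha : a < 6) (h : fitB L a = true) : Fit tets 1 L := by
  simp only [fitB, Bool.and_eq_true, List.all_eq_true, List.mem_range] at h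
  refine ⟨⟨tets.getD a 0, ?_, fun i hi => ?_⟩, ?_⟩
  · rw [List.getD_eq_getElem _ _ (show a < tets.length from ha)]
    exact List.getElem_mem _
  · have := h.1 i hi
    cases hb : (tets.getD a 0).testBit i <;> rw [hb] at this <;>
      simpa using this
  · have := foldl_par (fun i => decide (ent L i < 0)) 24
    rw [h.2] at this
    simpa [negPar] using this.symm

theorem axes_fitB : ∀ i < 24, ∃ a < 6, fitB (axImg i) a = true ∧ (tets.getD a 0).testBit i = true := by
  decide +kernel

theorem fit_xi_axis (i : GolayPt) : Fit tets 1 (lv (xi • eightE i)) := by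
  obtain ⟨a, ha, hf, -⟩ := axes_fitB _ (idx_lt i)
  rw [← pt_idx i, lv_xi_axis (idx_lt i)]
  exact fitB_sound ha hf

theorem lv_neg (v : leechLattice) : lv (-v) = (lv v).map fun x => -x := by
  simp only [lv, List.map_map]
  rfl

/-- The vectors of the standard neighbour. -/
theorem axes_of_fit {v : leechLattice} (h : Fit tets 1 (lv v)) :
    ∃ i, v = xi • eightE i ∨ v = -(xi • eightE i) := by
  obtain ⟨⟨m, hm, hs⟩, hp⟩ := h
  obtain ⟨a, ha, rfl⟩ : ∃ a < 6, tets.getD a 0 = m := by
    obtain ⟨a, ha, rfl⟩ := List.getElem_of_mem hm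
    exact ⟨a, ha, List.getD_eq_getElem _ _ ha⟩
  obtain ⟨hb, hlen, hnd⟩ := tets_pts a ha 0 (by norm_num)
  obtain ⟨p0, p1, p2, p3, hP⟩ : ∃ p0 p1 p2 p3, tetPts.getD a [] = [p0, p1, p2, p3] := by
    match h' : tetPts.getD a [], hlen with
    | [p0, p1, p2, p3], _ => exact ⟨p0, p1, p2, p3, rfl⟩
  let b : ℕ → Bool := fun i => decide (ent (lv v) i < 0)
  have hL : lv v = fourL (tetPts.getD a []) [b p0, b p1, b p2, b p3] := by
    conv_lhs => rw [show lv v = (List.range 24).map fun i => ent (lv v) i from
      lv_eq_map fun i hi => (ent_lv v hi).symm]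
    refine List.map_congr_left fun i hi => ?_
    have hi' := List.mem_range.1 hi
    have := hs i hi'
    rw [(tets_pts a ha i hi').1, hP] at this
    rw [hP]
    rw [hP] at hnd
    simp only [List.nodup_cons, List.mem_cons, List.not_mem_nil, or_false, not_or] at hnd
    by_cases e0 : i = p0
    · subst e0; simp at this; rcases this with e | e <;> simp [b, e]
    by_cases e1 : i = p1
    · subst e1; simp at this; rcases this with e | e <;> simp [b, e, Ne.symm e0]
    by_cases e2 : i = p2
    · subst e2; simp at this; rcases this with e | e <;> simp [b, e, Ne.symm e0, Ne.symm e1]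
    by_cases e3 : i = p3
    · subst e3; simp at this
      rcases this with e | e <;> simp [b, e, Ne.symm e0, Ne.symm e1, Ne.symm e2]
    simp [e0, e1, e2, e3] at this
    simp [e0, e1, e2, e3, this]
  have hxor : (b p0 ^^ b p1 ^^ b p2 ^^ b p3) = true := by
    have key : ∀ a < 6, ∀ b0 b1 b2 b3 : Bool,
        (List.range 24).foldl (fun c i => xor c (decide (ent (fourL (tetPts.getD a []) [b0, b1, b2, b3]) i < 0))) false =
          (b0 ^^ b1 ^^ b2 ^^ b3) := by decide +kernel
    have e := foldl_par (fun i => decide (ent (lv v) i < 0)) 24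
    conv at e => lhs; rw [hL, key a ha]
    simp only [negPar] at hp
    simp only [decide_eq_true_eq] at e
    rw [hp] at e
    revert e
    cases (b p0 ^^ b p1 ^^ b p2 ^^ b p3) <;> decide
  obtain ⟨i, hi, e | e⟩ := four_axes a ha _ _ _ _ hxor
  · exact ⟨pt i, Or.inl (lv_injective (by rw [hL, lv_xi_axis hi, e]))⟩
  · exact ⟨pt i, Or.inr (lv_injective (by rw [hL, lv_neg, lv_xi_axis hi, e]))⟩

/-- The stabiliser of the standard neighbour is normalised into the monomial group. -/
theorem conj_mem_cross {g : Co0} (h : Maps g tets 1 tets 1) : xi * g * xi ∈ crossGroup := by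
  intro i
  obtain ⟨k, hk⟩ := axes_of_fit ((h _).2 (fit_xi_axis i))
  refine ⟨k, ?_⟩
  rw [mul_smul, mul_smul]
  rcases hk with e | e
  · left; rw [e, ← mul_smul, xi_sq, one_smul]
  · right; rw [e, smul_neg', ← mul_smul, xi_sq, one_smul]

end Cfsg.Agent.Lib.Co1Uniq31
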