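import Cfsg.Agent.Lib.Co1Uniq31.Edge
import Cfsg.Agent.Lib.Co1Uniq31.CoverData

/-!
# The coded neighbours are all neighbours

Every element of the cross stabiliser carries the standard neighbour to one of the 3542 codes, every code
occurs, and two elements with the same code differ by an element normalised into the cross stabiliser.

Owner: helper31.
-/

set_option autoImplicit false

namespace Cfsg.Agent.Lib.Co1Uniq31

open Cfsg Cfsg.Agent.Lib.Leech Cfsg.Agent.Lib.Golay Cfsg.Agent.Lib.Co3Model Cfsg.Agent.Lib.LeechMod2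
open Cfsg.Agent.Lib.Computation (getW mulP forceNat forceNat_eq)

/-- The six masks of a sextet index. -/
def sixOf (s : ℕ) : List ℕ :=
  forceNat (sixBlocks.getD (s / 32) 0) fun w =>
    forceNat (Nat.mod (Nat.shiftRight w (144 * (s % 32))) (2 ^ 144)) fun v =>
      (List.range 6).map fun t => getW 24 v t

/-- The image of a sextet index under a generator. -/
def imgOf (g s : ℕ) : ℕ :=
  forceNat ((imgBlocks.getD g []).getD (s / 64) 0) fun w => getW 11 w (s % 64)

/-- The parent of a sextet index. -/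
def parentOf (s : ℕ) : ℕ := forceNat (parBlocks.getD (s / 64) 0) fun w => getW 13 w (s % 64)

/-- The generators and their inverses. -/
def genCodes : List (ℕ × ℕ) :=
  [(shiftCode, 983478296959358443554250846857397270), (invCode, invCode),
   (twistCode, 980275914351787324191492553553580224), (983478296959358443554250846857397270, shiftCode),
   (invCode, invCode), (980275914351787324191492553553580224, twistCode)]

/-- A monomial element carrying one code to another, on the level of indices. -/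
def stepOk (c q qi j j' : ℕ) : Bool := fitMaps c q qi (sixOf (j / 2)) (j % 2) (sixOf (j' / 2)) (j' % 2)

theorem gens_word_ok : (genCodes.all fun e => (monW 0 e.1 e.2).all Op.ok) = true := by decide +kernel

set_option maxRecDepth 100000 in
theorem imgs_ok : ((List.range 6).all fun g => (List.range 1771).all fun s =>
    Nat.blt (imgOf g s) 1771 &&
      fitMaps 0 (genCodes.getD g (0, 0)).1 (genCodes.getD g (0, 0)).2 (sixOf s) 1 (sixOf (imgOf g s)) 1) = true := by
  decide +kernel

set_option maxRecDepth 100000 in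
theorem parents_ok : ((List.range 1771).all fun s => Nat.beq s 0 ||
    (Nat.blt (parentOf s / 4) s && Nat.blt (parentOf s % 4) 3 &&
      Nat.beq (imgOf (parentOf s % 4) (parentOf s / 4)) s)) = true := by
  decide +kernel

theorem code_one : sixOf 0 = tets := by decide +kernel

theorem fitMaps_flip {c q qi p p' : ℕ} {s s' : List ℕ} (h : fitMaps c q qi s p s' p' = true) :
    fitMaps c q qi s (p + 1) s' (p' + 1) = true := by
  simp only [fitMaps, forceNat_eq, forceList_eq, Bool.and_eq_true, List.all_eq_true, memF_iff, Nat.beq_eq, Nat.blt_eq] at h ⊢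
  refine ⟨⟨h.1.1, fun m hm => ⟨⟨(h.1.2 m hm).1.1, ?_⟩, (h.1.2 m hm).2⟩⟩, h.2⟩
  have := (h.1.2 m hm).1.2
  omega

theorem fitMaps_both {c q qi : ℕ} {s s' : List ℕ} (h : fitMaps c q qi s 1 s' 1 = true) :
    fitMaps c q qi s 0 s' 0 = true := by
  have h2 := fitMaps_flip h
  simp only [fitMaps, forceNat_eq, forceList_eq, Bool.and_eq_true, List.all_eq_true, memF_iff, Nat.beq_eq, Nat.blt_eq] at h2 ⊢
  refine ⟨⟨h2.1.1, fun m hm => ⟨⟨(h2.1.2 m hm).1.1, ?_⟩, (h2.1.2 m hm).2⟩⟩, h2.2⟩
  have := (h2.1.2 m hm).1.2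
  omega

/-- A code of an element: it carries the standard neighbour there. -/
def At (n : N1) (j : ℕ) : Prop :=
  ∃ g ∈ crossGroup, Frame.bar g = (n : Spor.Co1) ∧ Maps g tets 1 (sixOf (j / 2)) (j % 2)

theorem At.mk' {g : Co0} (hg : g ∈ crossGroup) {n : N1} (hn : Frame.bar g = (n : Spor.Co1)) {j : ℕ}
    (h : Maps g tets 1 (sixOf (j / 2)) (j % 2)) : At n j := ⟨g, hg, hn, h⟩

theorem at_congr (n n' : N1) (j : ℕ) (h : At n j) (h' : At n' j) :
    xB * ((n⁻¹ * n' : N1) : Spor.Co1) * xB ∈ N1 := by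
  obtain ⟨g, hg, hgn, hm⟩ := h
  obtain ⟨g', hg', hgn', hm'⟩ := h'
  refine ⟨_, conj_mem_cross (hm.inv.mul hm'), ?_⟩
  rw [map_mul, map_mul, map_mul, map_inv, hgn, hgn']
  rfl

/-- The action of a generator on the codes. -/
theorem maps_gen {g : ℕ} (hg : g < 6) {j : ℕ} (hj : j < 3542) :
    ∃ j' < 3542, Maps (wordElt (monW 0 (genCodes.getD g (0, 0)).1 (genCodes.getD g (0, 0)).2))
      (sixOf (j / 2)) (j % 2) (sixOf (j' / 2)) (j' % 2) := by
  have hok : (monW 0 (genCodes.getD g (0, 0)).1 (genCodes.getD g (0, 0)).2).all Op.ok = true := by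
    refine List.all_eq_true.1 gens_word_ok _ ?_
    rw [List.getD_eq_getElem _ _ (show g < genCodes.length from hg)]
    exact List.getElem_mem _
  have h := List.all_eq_true.1 (List.all_eq_true.1 imgs_ok g (List.mem_range.2 hg)) (j / 2)
    (List.mem_range.2 (by omega))
  simp only [Bool.and_eq_true, Nat.blt_eq] at h
  refine ⟨2 * imgOf g (j / 2) + j % 2, by omega, ?_⟩
  rw [show (2 * imgOf g (j / 2) + j % 2) / 2 = imgOf g (j / 2) by omega,
    show (2 * imgOf g (j / 2) + j % 2) % 2 = j % 2 by omega]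
  rcases Nat.mod_two_eq_zero_or_one j with e | e <;> rw [e]
  · exact maps_monW hok (fitMaps_both h.2)
  · exact maps_monW hok h.2

theorem monW_zero {q qi : ℕ} (hok : (monW 0 q qi).all Op.ok = true) (hm : gperm q ∈ M24) :
    wordElt (monW 0 q qi) = permHom ⟨gperm q, hm⟩ := by
  simp only [monW, List.all_cons, List.all_nil, Bool.and_true, Bool.and_eq_true] at hok
  simp only [monW, wordElt, List.map_cons, List.map_nil, List.prod_cons, List.prod_nil, mul_one]
  rw [show (Op.sign 0).elt = 1 from co0_ext fun i => lv_injective (by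
    rw [lv_op hok.1, one_smul]
    simp only [Op.app, Nat.zero_testBit, Bool.false_eq_true, if_false]
    exact (lv_eq_map fun k hk => (ent_lv _ hk).symm).symm), one_mul]
  exact dif_pos hok.2

theorem maps_perm (σ : M24) :
    ∀ j < 3542, ∃ j' < 3542, Maps (permHom σ) (sixOf (j / 2)) (j % 2) (sixOf (j' / 2)) (j' % 2) := by
  obtain ⟨σ, hσ⟩ := σ
  have hσ' := hσ
  rw [← closure_gens_eq] at hσ'
  let P : Equiv.Perm GolayPt → Prop := fun τ => ∃ hτ : τ ∈ M24, ∀ j < 3542, ∃ j' < 3542,
    Maps (permHom ⟨τ, hτ⟩) (sixOf (j / 2)) (j % 2) (sixOf (j' / 2)) (j' % 2)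
  have hgen : ∀ g < 6, P (gperm (genCodes.getD g (0, 0)).1) := by
    intro g hg
    have hok : (monW 0 (genCodes.getD g (0, 0)).1 (genCodes.getD g (0, 0)).2).all Op.ok = true := by
      refine List.all_eq_true.1 gens_word_ok _ ?_
      rw [List.getD_eq_getElem _ _ (show g < genCodes.length from hg)]
      exact List.getElem_mem _
    have hok' := hok
    simp only [monW, List.all_cons, List.all_nil, Bool.and_true, Bool.and_eq_true, Op.ok] at hok'
    refine ⟨gperm_mem_M24 hok'.2.1.1, fun j hj => ?_⟩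
    rw [← monW_zero hok (gperm_mem_M24 hok'.2.1.1)]
    exact maps_gen hg hj
  have hinv : ∀ g < 3, (gperm (genCodes.getD g (0, 0)).1)⁻¹ = gperm (genCodes.getD (g + 3) (0, 0)).1 := by
    intro g hg
    have key : ∀ g < 3, okCode (genCodes.getD g (0, 0)).1 = true ∧
        okCode (genCodes.getD (g + 3) (0, 0)).1 = true ∧
        mulP 24 5 (genCodes.getD g (0, 0)).1 (genCodes.getD (g + 3) (0, 0)).1 = oneCode := by decide +kernel
    obtain ⟨h1, h2, h3⟩ := key g hg
    refine inv_eq_of_mul_eq_one_right ?_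
    rw [← gperm_mul h1 h2, h3, gperm_oneCode]
  have hP : ∀ τ ∈ genGroup, P τ := by
    intro τ' hτ'
    induction hτ' using Subgroup.closure_induction_left with
    | one => exact ⟨one_mem _, fun j hj => ⟨j, hj, by
        rw [show (⟨1, one_mem _⟩ : M24) = 1 from rfl, map_one]; exact maps_one _ _⟩⟩
    | mul_left y hy τ hτ ih =>
      obtain ⟨g, hg, rfl⟩ : ∃ g < 3, y = gperm (genCodes.getD g (0, 0)).1 := by
        rcases hy with rfl | rfl | rfl
        · exact ⟨0, by norm_num, shift_eq⟩
        · exact ⟨1, by norm_num, projInv_eq⟩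
        · exact ⟨2, by norm_num, cubeTwist_eq⟩
      obtain ⟨hy', h1⟩ := hgen g (by omega)
      obtain ⟨hτ', h2⟩ := ih
      refine ⟨mul_mem hy' hτ', fun j hj => ?_⟩
      obtain ⟨j1, hj1, m1⟩ := h2 j hj
      obtain ⟨j2, hj2, m2⟩ := h1 j1 hj1
      exact ⟨j2, hj2, by
        rw [show (⟨_, mul_mem hy' hτ'⟩ : M24) = ⟨_, hy'⟩ * ⟨τ, hτ'⟩ from rfl, map_mul]; exact m2.mul m1⟩
    | inv_mul_cancel y hy τ hτ ih =>
      obtain ⟨g, hg, rfl⟩ : ∃ g < 3, y = gperm (genCodes.getD g (0, 0)).1 := by
        rcases hy with rfl | rfl | rfl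
        · exact ⟨0, by norm_num, shift_eq⟩
        · exact ⟨1, by norm_num, projInv_eq⟩
        · exact ⟨2, by norm_num, cubeTwist_eq⟩
      rw [hinv g hg]
      obtain ⟨hy', h1⟩ := hgen (g + 3) (by omega)
      obtain ⟨hτ', h2⟩ := ih
      refine ⟨mul_mem hy' hτ', fun j hj => ?_⟩
      obtain ⟨j1, hj1, m1⟩ := h2 j hj
      obtain ⟨j2, hj2, m2⟩ := h1 j1 hj1
      exact ⟨j2, hj2, by
        rw [show (⟨_, mul_mem hy' hτ'⟩ : M24) = ⟨_, hy'⟩ * ⟨τ, hτ'⟩ from rfl, map_mul]; exact m2.mul m1⟩
  exact (hP σ hσ').2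

set_option maxRecDepth 100000 in
theorem flips_ok : ((List.range 4096).all fun k => inCode (enc k) &&
    fitMaps (enc k) oneCode oneCode (sixOf 0) 1 (sixOf 0) ((1 + pc24 (enc k &&& tets.getD 0 0)) % 2)) = true := by
  decide +kernel

theorem maps_diag {d : Co0} (hd : d ∈ Frame.diag) :
    ∃ j < 2, Maps d tets 1 (sixOf (j / 2)) (j % 2) := by
  obtain ⟨c, hc, rfl⟩ := Frame.mem_diag_iff.1 hd
  obtain ⟨k, hk, rfl⟩ := mem_supports_iff.1 hc
  have h := List.all_eq_true.1 flips_ok k (List.mem_range.2 hk)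
  simp only [Bool.and_eq_true] at h
  have hok1 : (Op.perm oneCode oneCode).ok = true := by decide +kernel
  have hok : (monW (enc k) oneCode oneCode).all Op.ok = true := by
    simp only [monW, List.all_cons, List.all_nil, Bool.and_true, Bool.and_eq_true]
    exact ⟨h.1, hok1⟩
  have he : wordElt (monW (enc k) oneCode oneCode) = flip (setOfMask (enc k)) hc := by
    simp only [monW, wordElt, List.map_cons, List.map_nil, List.prod_cons, List.prod_nil, mul_one]
    rw [show (Op.sign (enc k)).elt = flip (setOfMask (enc k)) hc from dif_pos h.1,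
      show (Op.perm oneCode oneCode).elt = 1 from ?_, mul_one]
    simp only [Op.elt, dif_pos hok1]
    rw [show (⟨gperm oneCode, _⟩ : M24) = 1 from Subtype.ext gperm_oneCode, map_one]
  refine ⟨(1 + pc24 (enc k &&& tets.getD 0 0)) % 2, Nat.mod_lt _ (by norm_num), ?_⟩
  rw [Nat.div_eq_of_lt (Nat.mod_lt _ (by norm_num)), Nat.mod_mod]
  have := maps_monW hok h.2
  rwa [he, code_one] at this

theorem at_total (n : N1) : ∃ j < 3542, At n j := by
  obtain ⟨g, hg, hgn⟩ := n.2
  obtain ⟨d, hd, σ, rfl⟩ := Frame.exists_split hg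
  have hd' : (permHom σ)⁻¹ * d * permHom σ ∈ Frame.diag := by
    have := Frame.cross_conj_diag (inv_mem (Frame.permHom_mem_cross σ)) hd
    rwa [inv_inv] at this
  obtain ⟨j0, hj0, m0⟩ := maps_diag hd'
  obtain ⟨j, hj, m1⟩ := maps_perm σ j0 (by omega)
  refine ⟨j, hj, _, hg, hgn, ?_⟩
  have := m1.mul m0
  rwa [show permHom σ * ((permHom σ)⁻¹ * d * permHom σ) = d * permHom σ by group] at this

theorem at_exists : ∀ j < 3542, ∃ n, At n j := by
  have key : ∀ s < 1771, ∀ p < 2, ∃ g ∈ crossGroup, Maps g tets 1 (sixOf s) p := by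
    intro s
    induction s using Nat.strong_induction_on with
    | _ s ih =>
      intro hs p hp
      rcases eq_or_ne s 0 with rfl | h0
      · rw [code_one]
        interval_cases p
        · exact ⟨_, monW_mem_cross flipMask oneCode oneCode,
            maps_monW (by decide +kernel) (by decide +kernel)⟩
        · exact ⟨1, one_mem _, maps_one _ _⟩
      have h := List.all_eq_true.1 parents_ok s (List.mem_range.2 hs)
      simp only [Bool.or_eq_true, Nat.beq_eq, Bool.and_eq_true, Nat.blt_eq] at h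
      obtain ⟨⟨h1, h2⟩, h3⟩ := h.resolve_left h0
      obtain ⟨g, hg, hm⟩ := ih _ h1 (by omega) p hp
      have hok : (monW 0 (genCodes.getD (parentOf s % 4) (0, 0)).1 (genCodes.getD (parentOf s % 4) (0, 0)).2).all
          Op.ok = true := by
        refine List.all_eq_true.1 gens_word_ok _ ?_
        rw [List.getD_eq_getElem _ _ (show parentOf s % 4 < genCodes.length from by show _ < 6; omega)]
        exact List.getElem_mem _
      have hi := List.all_eq_true.1 (List.all_eq_true.1 imgs_ok (parentOf s % 4) (List.mem_range.2 (by omega)))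
        (parentOf s / 4) (List.mem_range.2 (by omega))
      simp only [Bool.and_eq_true, h3] at hi
      refine ⟨wordElt (monW 0 (genCodes.getD (parentOf s % 4) (0, 0)).1 (genCodes.getD (parentOf s % 4) (0, 0)).2) * g,
        mul_mem (monW_mem_cross _ _ _) hg, Maps.mul ?_ hm⟩
      interval_cases p
      · exact maps_monW hok (fitMaps_both hi.2)
      · exact maps_monW hok hi.2
  intro j hj
  obtain ⟨g, hg, hm⟩ := key (j / 2) (by omega) (j % 2) (Nat.mod_lt _ (by norm_num))
  exact ⟨⟨_, g, hg, rfl⟩, g, hg, rfl, hm⟩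

end Cfsg.Agent.Lib.Co1Uniq31
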