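import Mathlib.Algebra.Group.Subgroup.Basic
import Mathlib.Algebra.Group.Subgroup.Lattice
import Mathlib.Algebra.Group.Subgroup.Pointwise
import Mathlib.Tactic.Group

/-!
# Coverings of coset graphs

`π : H →* M` is injective over the subgroup `N`; the vertices are the cosets of `N`, two of them adjacent
when they differ by an element of `N x N`.  The vertices fall into types `T q`, each type with a parent type
`par q`.  `Lifted q` consists of the elements of `H` reached along parents.  If the types are separated and
the union of the lifted sets is closed, then `π` is injective.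

Owner: helper31.
-/

set_option autoImplicit false

namespace Cfsg.Agent.Lib.Co1Uniq31

variable {H M : Type*} [Group H] [Group M]

/-- The frame of a covering: a section over `N` and an involution. -/
structure Cov (π : H →* M) (N : Subgroup M) (ι : N →* H) (x : H) : Prop where
  proj : ∀ n, π (ι n) = n
  sq : x * x = 1
  gen : Subgroup.closure (Set.range ι ∪ {x}) = ⊤
  edge : ∀ n : N, π x * n * π x ∈ N → x * ι n * x ∈ ι.range

/-- The elements of a type: the double coset of a representative. -/
def TypeSet (N : Subgroup M) (u : ℕ → M) (q : ℕ) (y : M) : Prop :=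
  ∃ n ∈ N, ∃ m ∈ N, y = n * u q * m

/-- Lifts along parents. -/
inductive Lifted (π : H →* M) (N : Subgroup M) (ι : N →* H) (x : H) (u : ℕ → M) (par : ℕ → ℕ) : ℕ → H → Prop
  | base (n : N) : Lifted π N ι x u par 0 (ι n)
  | step {q : ℕ} {b : H} (n m : N) (hq : 1 ≤ q ∧ q < 6) (hb : Lifted π N ι x u par (par q) b)
      (hT : TypeSet N u q (π (b * ι n * x * ι m))) : Lifted π N ι x u par q (b * ι n * x * ι m)

variable {π : H →* M} {N : Subgroup M} {ι : N →* H} {x : H} {u : ℕ → M} {par : ℕ → ℕ}

theorem typeSet_left {q : ℕ} {y : M} (h : TypeSet N u q y) {n : M} (hn : n ∈ N) : TypeSet N u q (n * y) := by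
  obtain ⟨a, ha, b, hb, rfl⟩ := h
  exact ⟨n * a, mul_mem hn ha, b, hb, by group⟩

theorem typeSet_right {q : ℕ} {y : M} (h : TypeSet N u q y) {n : M} (hn : n ∈ N) : TypeSet N u q (y * n) := by
  obtain ⟨a, ha, b, hb, rfl⟩ := h
  exact ⟨a, ha, b * n, mul_mem hb hn, by group⟩

namespace Cov

variable (c : Cov π N ι x)
include c

theorem proj_x_sq : π x * π x = 1 := by rw [← map_mul, c.sq, map_one]

theorem lifted_right {q : ℕ} {a : H} (h : Lifted π N ι x u par q a) (k : N) :
    Lifted π N ι x u par q (a * ι k) := by
  cases h with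
  | base n => rw [← map_mul]; exact .base _
  | @step q b n m hq hb hT =>
    rw [show b * ι n * x * ι m * ι k = b * ι n * x * ι (m * k) by rw [map_mul]; group]
    refine .step n _ hq hb ?_
    rw [show b * ι n * x * ι (m * k) = b * ι n * x * ι m * ι k by rw [map_mul]; group, map_mul, c.proj]
    exact typeSet_right hT k.2

theorem lifted_left {q : ℕ} {a : H} (h : Lifted π N ι x u par q a) (k : N) :
    Lifted π N ι x u par q (ι k * a) := by
  induction h with
  | base n => rw [← map_mul]; exact .base _
  | @step q b n m hq hb hT ih =>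
    rw [show ι k * (b * ι n * x * ι m) = ι k * b * ι n * x * ι m by group]
    refine .step n m hq ih ?_
    rw [show ι k * b * ι n * x * ι m = ι k * (b * ι n * x * ι m) by group, map_mul, c.proj]
    exact typeSet_left hT k.2

theorem lifted_type (hu : u 0 = 1) {q : ℕ} {a : H} (h : Lifted π N ι x u par q a) :
    TypeSet N u q (π a) := by
  cases h with
  | base n => exact ⟨n, n.2, 1, one_mem _, by rw [c.proj, hu]; group⟩
  | step n m hq hb hT => exact hT

/-- Two neighbours over the same vertex differ by an element of the section. -/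
theorem nbr_congr {q : ℕ} {a : H} {n n' : N} (he : π x * ((n⁻¹ * n' : N) : M) * π x ∈ N)
    (h : Lifted π N ι x u par q (a * ι n * x)) : Lifted π N ι x u par q (a * ι n' * x) := by
  obtain ⟨k, hk⟩ := c.edge _ he
  have := c.lifted_right h k
  rw [hk, map_mul, map_inv] at this
  rwa [show a * ι n * x * (x * ((ι n)⁻¹ * ι n') * x) = a * ι n * (x * x) * (ι n)⁻¹ * ι n' * x by group,
    c.sq, mul_one, mul_inv_cancel_right] at this

end Cov

end Cfsg.Agent.Lib.Co1Uniq31
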