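import Cfsg.Agent.Lib.Co1Uniq31.Cover

/-!
# One type of a covering

With neighbours named by codes: uniqueness of the lifts of a type from a root neighbour in the parent type that
is fixed by the stabiliser, and closedness from witnesses.

Owner: helper31.
-/

set_option autoImplicit false

namespace Cfsg.Agent.Lib.Co1Uniq31

variable {H M : Type*} [Group H] [Group M]

/-- A coded covering with separated types. -/
structure Coded (π : H →* M) (N : Subgroup M) (ι : N →* H) (x : H) (u : ℕ → M) (par : ℕ → ℕ)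
    (At : N → ℕ → Prop) : Prop where
  cov : Cov π N ι x
  u_zero : u 0 = 1
  congr : ∀ n n' j, At n j → At n' j → π x * ((n⁻¹ * n' : N) : M) * π x ∈ N
  total : ∀ n, ∃ j < 3542, At n j
  exi : ∀ j < 3542, ∃ n, At n j
  sep : ∀ q < 6, ∀ q' < 6, ∀ y, TypeSet N u q y → TypeSet N u q' y → q = q'
  par_lt : ∀ q < 6, 1 ≤ q → par q < q

variable {π : H →* M} {N : Subgroup M} {ι : N →* H} {x : H} {u : ℕ → M} {par : ℕ → ℕ} {At : N → ℕ → Prop}

/-- The lifts of a type are determined by their images. -/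
def Unique (π : H →* M) (N : Subgroup M) (ι : N →* H) (x : H) (u : ℕ → M) (par : ℕ → ℕ) (q : ℕ) : Prop :=
  ∀ a a', Lifted π N ι x u par q a → Lifted π N ι x u par q a' → π a = π a' → a = a'

/-- Neighbours of lifts of a type are lifts. -/
def Full (π : H →* M) (N : Subgroup M) (ι : N →* H) (x : H) (u : ℕ → M) (par : ℕ → ℕ) (q : ℕ) : Prop :=
  ∀ a, Lifted π N ι x u par q a → ∀ n : N, ∃ r, Lifted π N ι x u par r (a * ι n * x)

/-- The type of a coded neighbour. -/
def Typ (π : H →* M) (N : Subgroup M) (x : H) (u : ℕ → M) (At : N → ℕ → Prop) (t j q : ℕ) : Prop :=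
  q < 6 ∧ ∀ n : N, At n j → TypeSet N u q (u t * n * π x)

/-- An element of the stabiliser, on both sides. -/
def Stab (N : Subgroup M) (u : ℕ → M) (t : ℕ) (s s' : N) : Prop := (s : M) * u t = u t * s'

/-- An element carries one code to another. -/
def Moves (At : N → ℕ → Prop) (s' : N) (j j' : ℕ) : Prop := ∀ n, At n j → At (s' * n) j'

/-- A lift over a representative with a lifted neighbour in the parent type. -/
def Pred (π : H →* M) (N : Subgroup M) (ι : N →* H) (x : H) (u : ℕ → M) (par : ℕ → ℕ) (At : N → ℕ → Prop)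
    (t j : ℕ) (a : H) : Prop :=
  π a = u t ∧ ∀ n, At n j → Lifted π N ι x u par (par t) (a * ι n * x)

/-- A neighbour code of a lift over a representative is closed. -/
def Cl (π : H →* M) (N : Subgroup M) (ι : N →* H) (x : H) (u : ℕ → M) (par : ℕ → ℕ) (At : N → ℕ → Prop)
    (t j : ℕ) : Prop :=
  ∀ a, Lifted π N ι x u par t a → π a = u t → ∀ n, At n j →
    ∃ r, Lifted π N ι x u par r (a * ι n * x)

namespace Coded

variable (C : Coded π N ι x u par At)
include C

omit C in
theorem lifted_lt {q : ℕ} {a : H} (h : Lifted π N ι x u par q a) : q < 6 := by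
  cases h with
  | base n => norm_num
  | step n m hq hb hT => exact hq.2

theorem lifted_eq {q r : ℕ} {a : H} (h : Lifted π N ι x u par q a) (hr : r < 6)
    (hT : TypeSet N u r (π a)) : q = r :=
  C.sep q (lifted_lt h) r hr _ (C.cov.lifted_type C.u_zero h) hT

theorem proj_nbr {t : ℕ} {a : H} (ha : π a = u t) (n : N) : π (a * ι n * x) = u t * n * π x := by
  rw [map_mul, map_mul, ha, C.cov.proj]

theorem pred_inj {t j : ℕ} (hj : j < 3542) (hU : Unique π N ι x u par (par t)) {a a' : H}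
    (h : Pred π N ι x u par At t j a) (h' : Pred π N ι x u par At t j a') : a = a' := by
  obtain ⟨n, hn⟩ := C.exi j hj
  have e := hU _ _ (h.2 n hn) (h'.2 n hn) (by rw [C.proj_nbr h.1, C.proj_nbr h'.1])
  exact mul_right_cancel (mul_right_cancel e)

theorem pred_back {t j j' : ℕ} {s s' : N} (hs : Stab N u t s s') (hm : Moves At s' j j') {a : H}
    (h : Pred π N ι x u par At t j' a) : Pred π N ι x u par At t j ((ι s)⁻¹ * a * ι s') := by
  refine ⟨?_, fun n hn => ?_⟩
  · rw [map_mul, map_mul, map_inv, C.cov.proj, C.cov.proj, h.1]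
    calc (s : M)⁻¹ * u t * s' = (s : M)⁻¹ * ((s : M) * u t) := by rw [hs]; group
      _ = u t := inv_mul_cancel_left _ _
  · have := C.cov.lifted_left (h.2 _ (hm n hn)) s⁻¹
    rwa [map_mul, map_inv, show (ι s)⁻¹ * (a * (ι s' * ι n) * x) = (ι s)⁻¹ * a * ι s' * ι n * x by group]
      at this

theorem pred_forth {t j j' : ℕ} (hj : j < 3542) {s s' : N} (hs : Stab N u t s s') (hm : Moves At s' j j')
    {a : H} (h : Pred π N ι x u par At t j a) : Pred π N ι x u par At t j' (ι s * a * (ι s')⁻¹) := by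
  have hp : π (ι s * a * (ι s')⁻¹) = u t := by
    rw [map_mul, map_mul, map_inv, C.cov.proj, C.cov.proj, h.1, hs, mul_inv_cancel_right]
  refine ⟨hp, fun n hn => ?_⟩
  obtain ⟨n0, hn0⟩ := C.exi j hj
  have := C.cov.lifted_left (h.2 n0 hn0) s
  refine C.cov.nbr_congr (C.congr (s' * n0) n j' (hm n0 hn0) hn) ?_
  rwa [map_mul, show ι s * a * (ι s')⁻¹ * (ι s' * ι n0) * x = ι s * (a * ι n0 * x) by group]

theorem pred_link {t j k : ℕ} (hF : Full π N ι x u par (par t)) (hk : Typ π N x u At t k (par t))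
    {n p α β : N} (hj : At n j) (hk' : At (n * p) k) (hgood : x * ι p * x = ι α * x * ι β) {a : H}
    (h : Pred π N ι x u par At t j a) : Pred π N ι x u par At t k a := by
  obtain ⟨r, hr⟩ := hF _ (h.2 n hj) α
  have h2 := C.cov.lifted_right hr β
  rw [show a * ι n * x * ι α * x * ι β = a * ι n * (x * (ι α * x * ι β)) by group, ← hgood,
    show x * (x * ι p * x) = x * x * ι p * x by group, C.cov.sq, one_mul,
    show a * ι n * (ι p * x) = a * (ι n * ι p) * x by group, ← map_mul] at h2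
  have e : r = par t := C.lifted_eq h2 hk.1 (by rw [C.proj_nbr h.1]; exact hk.2 _ hk')
  subst e
  exact ⟨h.1, fun m hm => C.cov.nbr_congr (C.congr _ _ k hk' hm) h2⟩

/-- The root is fixed by the stabiliser and reaches all of the parent neighbours: uniqueness. -/
theorem unique_of_root {t root : ℕ} (hroot : root < 3542) (ht : 1 ≤ t ∧ t < 6)
    (hU : Unique π N ι x u par (par t))
    (htyp : ∀ j < 3542, Typ π N x u At t j (par t) →
      ∀ a, Pred π N ι x u par At t j a → Pred π N ι x u par At t root a) :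
    Unique π N ι x u par t := by
  intro a a' ha ha' e
  obtain ⟨n, hn, m, hm, he⟩ := C.cov.lifted_type C.u_zero ha
  have key : ∀ b, Lifted π N ι x u par t b → π b = π a →
      Pred π N ι x u par At t root ((ι ⟨n, hn⟩)⁻¹ * b * (ι ⟨m, hm⟩)⁻¹) := by
    intro b hb hpb
    have hl := C.cov.lifted_left (C.cov.lifted_right hb (⟨m, hm⟩⁻¹)) (⟨n, hn⟩⁻¹)
    rw [map_inv, map_inv, ← mul_assoc] at hl
    have hp : π ((ι ⟨n, hn⟩)⁻¹ * b * (ι ⟨m, hm⟩)⁻¹) = u t := by
      rw [map_mul, map_mul, map_inv, map_inv, C.cov.proj, C.cov.proj, hpb, he]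
      show n⁻¹ * (n * u t * m) * m⁻¹ = u t
      group
    generalize (ι ⟨n, hn⟩)⁻¹ * b * (ι ⟨m, hm⟩)⁻¹ = b0 at hl hp ⊢
    cases hl with
    | base k => omega
    | @step _ c k k' hq hc hT =>
      obtain ⟨j, hj, hjk⟩ := C.total k'⁻¹
      have hl2 : Lifted π N ι x u par (par t) (c * ι k * x * ι k' * ι k'⁻¹ * x) := by
        rw [show c * ι k * x * ι k' * ι k'⁻¹ * x = c * ι k * (x * x) by rw [map_inv]; group, C.cov.sq,
          mul_one]
        exact C.cov.lifted_right hc k
      have hty : Typ π N x u At t j (par t) := by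
        refine ⟨lifted_lt hc, fun m' hm' => ?_⟩
        have hc2 := C.cov.lifted_type C.u_zero (C.cov.nbr_congr (C.congr _ _ j hjk hm') hl2)
        rwa [C.proj_nbr hp] at hc2
      exact htyp j hj hty _ ⟨hp, fun m' hm' => C.cov.nbr_congr (C.congr _ _ j hjk hm') hl2⟩
  have := C.pred_inj hroot hU (key a ha rfl) (key a' ha' e.symm)
  exact mul_left_cancel (mul_right_cancel this)

theorem stab_fix {t : ℕ} (hU : Unique π N ι x u par t) {s s' : N} (hs : Stab N u t s s') {a : H}
    (ha : Lifted π N ι x u par t a) (hp : π a = u t) : ι s * a * (ι s')⁻¹ = a := by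
  refine hU _ _ ?_ ha ?_
  · rw [← map_inv]; exact C.cov.lifted_right (C.cov.lifted_left ha s) _
  · rw [map_mul, map_mul, map_inv, C.cov.proj, C.cov.proj, hp, hs, mul_inv_cancel_right]

theorem cl_moves {t j j' : ℕ} (hj : j < 3542) (hU : Unique π N ι x u par t) {s s' : N}
    (hs : Stab N u t s s') (hm : Moves At s' j j') (h : Cl π N ι x u par At t j) :
    Cl π N ι x u par At t j' := by
  intro a ha hp n hn
  obtain ⟨n0, hn0⟩ := C.exi j hj
  obtain ⟨r, hr⟩ := h a ha hp n0 hn0
  refine ⟨r, C.cov.nbr_congr (C.congr (s' * n0) n j' (hm n0 hn0) hn) ?_⟩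
  have := C.cov.lifted_left hr s
  rwa [show ι s * (a * ι n0 * x) = ι s * a * (ι s')⁻¹ * (ι s' * ι n0) * x by group, ← map_mul,
    C.stab_fix hU hs ha hp] at this

theorem cl_child {t j q : ℕ} (hj : Typ π N x u At t j q) (hq : 1 ≤ q) (hpar : par q = t) :
    Cl π N ι x u par At t j := by
  intro a ha hp n hn
  refine ⟨q, ?_⟩
  have h : Lifted π N ι x u par q (a * ι n * x * ι 1) := by
    refine .step n 1 ⟨hq, hj.1⟩ (hpar.symm ▸ ha) ?_
    rw [map_one, mul_one, C.proj_nbr hp]
    exact hj.2 n hn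
  rwa [map_one, mul_one] at h

theorem cl_witness {t w j q r : ℕ} (hw : Cl π N ι x u par At t w) (hwt : Typ π N x u At t w r)
    (hjt : Typ π N x u At t j q) {n p α β : N} (hnw : At n w) (hnj : At (n * p) j)
    (hgood : x * ι p * x = ι α * x * ι β) (hrule : (1 ≤ q ∧ par q = r) ∨ Full π N ι x u par r) :
    Cl π N ι x u par At t j := by
  intro a ha hp m hm
  obtain ⟨r', hr'⟩ := hw a ha hp n hnw
  have e : r' = r := C.lifted_eq hr' hwt.1 (by rw [C.proj_nbr hp]; exact hwt.2 _ hnw)
  subst e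
  have eq1 : a * ι n * x * ι α * x * ι β = a * ι (n * p) * x := by
    rw [show a * ι n * x * ι α * x * ι β = a * ι n * (x * (ι α * x * ι β)) by group, ← hgood,
      show x * (x * ι p * x) = x * x * ι p * x by group, C.cov.sq, one_mul, map_mul]
    group
  rcases hrule with ⟨hq, hpar⟩ | hF
  · refine ⟨q, C.cov.nbr_congr (C.congr _ _ j hnj hm) ?_⟩
    rw [← eq1]
    refine .step α β ⟨hq, hjt.1⟩ (hpar.symm ▸ hr') ?_
    rw [eq1, C.proj_nbr hp]
    exact hjt.2 _ hnj
  · obtain ⟨r2, hr2⟩ := hF _ hr' α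
    refine ⟨r2, C.cov.nbr_congr (C.congr _ _ j hnj hm) ?_⟩
    rw [← eq1]
    exact C.cov.lifted_right hr2 β

theorem full_of_cl {t : ℕ} (h : ∀ j < 3542, Cl π N ι x u par At t j) : Full π N ι x u par t := by
  intro a ha k
  obtain ⟨n, hn, m, hm, he⟩ := C.cov.lifted_type C.u_zero ha
  have hl := C.cov.lifted_left (C.cov.lifted_right ha (⟨m, hm⟩⁻¹)) (⟨n, hn⟩⁻¹)
  rw [map_inv, map_inv, ← mul_assoc] at hl
  have hp : π ((ι ⟨n, hn⟩)⁻¹ * a * (ι ⟨m, hm⟩)⁻¹) = u t := by
    rw [map_mul, map_mul, map_inv, map_inv, C.cov.proj, C.cov.proj, he]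
    show n⁻¹ * (n * u t * m) * m⁻¹ = u t
    group
  obtain ⟨j, hj, hjk⟩ := C.total (⟨m, hm⟩ * k)
  obtain ⟨r, hr⟩ := h j hj _ hl hp _ hjk
  refine ⟨r, ?_⟩
  have := C.cov.lifted_left hr ⟨n, hn⟩
  rwa [map_mul, show ι ⟨n, hn⟩ * ((ι ⟨n, hn⟩)⁻¹ * a * (ι ⟨m, hm⟩)⁻¹ * (ι ⟨m, hm⟩ * ι k) * x) = a * ι k * x
    by group] at this

theorem unique_zero : Unique π N ι x u par 0 := by
  intro a a' ha ha' e
  cases ha with
  | base n =>
    cases ha' with
    | base n' => rw [C.cov.proj, C.cov.proj] at e; rw [Subtype.ext e]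
    | step n m hq hb hT => omega
  | step n m hq hb hT => omega

/-- If every type is full then the projection is injective. -/
theorem injective (hF : ∀ q < 6, Full π N ι x u par q) : Function.Injective π := by
  have hall : ∀ h : H, ∃ q, Lifted π N ι x u par q h := by
    intro h
    have hh : h ∈ Subgroup.closure (Set.range ι ∪ {x}) := C.cov.gen.symm ▸ Subgroup.mem_top h
    have step : ∀ y ∈ Set.range ι ∪ {x}, ∀ a, (∃ q, Lifted π N ι x u par q a) →
        (∃ q, Lifted π N ι x u par q (a * y)) ∧ ∃ q, Lifted π N ι x u par q (a * y⁻¹) := by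
      rintro y hy a ⟨q, hq⟩
      rcases hy with ⟨k, rfl⟩ | hy
      · exact ⟨⟨q, C.cov.lifted_right hq k⟩, q, by rw [← map_inv]; exact C.cov.lifted_right hq _⟩
      · rw [Set.mem_singleton_iff.1 hy]
        have e : a * x = a * ι 1 * x := by rw [map_one, mul_one]
        have ex : x⁻¹ = x := inv_eq_of_mul_eq_one_right C.cov.sq
        rw [ex, e, and_self]
        exact hF q (lifted_lt hq) a hq 1
    induction hh using Subgroup.closure_induction_right with
    | one => exact ⟨0, by have := Lifted.base (π := π) (x := x) (u := u) (par := par) (ι := ι) (1 : N); rwa [map_one] at this⟩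
    | mul_right a ha y hy ih => exact (step y hy a ih).1
    | mul_inv_cancel a ha y hy ih => exact (step y hy a ih).2
  refine (injective_iff_map_eq_one π).2 fun h hh => ?_
  obtain ⟨q, hq⟩ := hall h
  have e : q = 0 := C.lifted_eq hq (by norm_num)
    ⟨1, one_mem _, 1, one_mem _, by rw [hh, C.u_zero]; group⟩
  subst e
  exact C.unique_zero _ _ hq (by have := Lifted.base (π := π) (x := x) (u := u) (par := par) (ι := ι) (1 : N); rwa [map_one] at this)
    (by rw [hh, map_one])

end Coded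

end Cfsg.Agent.Lib.Co1Uniq31
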