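import Cfsg.Agent.Lib.Co1Uniq31.Axes

/-!
# The relations at the standard edge

Under compatible embeddings, conjugation by the image of the sextet element agrees with the model on the whole
intersection of the cross group with its conjugate.  For elements of the centraliser this is the compatibility;
for a permutation moving the octad inside the sextet the two candidate images of the sextet element differ by a
sign change, which cancels in a relation of even length.

Owner: helper31.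
-/

set_option autoImplicit false

namespace Cfsg.Agent.Lib.Co1Uniq31

open Cfsg Cfsg.Agent.Lib.Leech Cfsg.Agent.Lib.Golay Cfsg.Agent.Lib.Co3Model Cfsg.Agent.Lib.LeechMod2
open Cfsg.Agent.Lib.Co1Cent (z1 C1)
open Cfsg.Agent.Lib.Computation (getW mulP)
open Cfsg.Agent.Lib.Co1Mult.Words (eq_of_eqW wordElt_append)
open scoped Pointwise

/-- The sextet element in the quotient. -/
noncomputable def xB : Spor.Co1 := Frame.bar xi

theorem xB_sq : xB * xB = 1 := by rw [xB, ← map_mul, xi_sq, map_one]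

theorem xB_C1 : xB ∈ C1 := Subgroup.mem_centralizer_singleton_iff.2 (by
  rw [xB, z1, ← map_mul, ← map_mul, xi_t0])

/-- The sextet element in the centraliser. -/
noncomputable def xC : C1 := ⟨xB, xB_C1⟩

theorem z1_N1 : z1 ∈ N1 :=
  ⟨_, Frame.diag_le_cross (Frame.flip_mem_diag _ Co2Cent.off_compl.1), rfl⟩

theorem flipBar_N1 (c : Finset GolayPt) (hc : IsCode c) : Frame.bar (flip c hc) ∈ N1 :=
  ⟨_, Frame.diag_le_cross (Frame.flip_mem_diag c hc), rfl⟩

theorem flipBar_C1 (c : Finset GolayPt) (hc : IsCode c) : Frame.bar (flip c hc) ∈ C1 :=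
  Subgroup.mem_centralizer_singleton_iff.2 (Frame.diagBar_comm ⟨_, Frame.flip_mem_diag c hc, rfl⟩
    ⟨_, Frame.flip_mem_diag _ Co2Cent.off_compl.1, rfl⟩)

theorem bar_cross {g : Co0} (h : Frame.bar g ∈ N1) : g ∈ crossGroup := by
  obtain ⟨k, hk, e⟩ := h
  have hc : k⁻¹ * g ∈ Subgroup.center Co0 := by
    rw [← Frame.bar_eq_one, map_mul, map_inv, e, inv_mul_cancel]
  rw [show g = k * (k⁻¹ * g) by group]
  exact mul_mem hk (Frame.diag_le_cross (Frame.center_le_diag hc))

/-- The permutations as elements of the cross stabiliser. -/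
noncomputable def permN : M24 →* N1 :=
  Frame.permBar.codRestrict N1 fun σ => ⟨permHom σ, Frame.permHom_mem_cross σ, rfl⟩

theorem coe_permN (σ : M24) : (permN σ : Spor.Co1) = Frame.permBar σ := rfl

theorem ent_lv_neg (v : leechLattice) {k : ℕ} (hk : k < 24) : ent (lv (-v)) k = -ent (lv v) k := by
  rw [ent_lv _ hk, ent_lv _ hk]
  rfl

variable {G : Type*} [Group G] {z : G} {ιN : N1 →* G} {ιC : C1 →* G}

/-- The relation at the edge for an element. -/
def Ed (ιN : N1 →* G) (X : G) (n : N1) : Prop :=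
  ∃ k : N1, (k : Spor.Co1) = xB * n * xB ∧ ιN k = X * ιN n * X

theorem Ed.mul {X : G} (hX : X * X = 1) {m n : N1} (hm : Ed ιN X m) (hn : Ed ιN X n) : Ed ιN X (m * n) := by
  obtain ⟨k, hk, hk'⟩ := hm
  obtain ⟨l, hl, hl'⟩ := hn
  refine ⟨k * l, ?_, ?_⟩
  · rw [Subgroup.coe_mul, hk, hl, Subgroup.coe_mul,
      show xB * (m : Spor.Co1) * xB * (xB * n * xB) = xB * m * (xB * xB) * n * xB by group, xB_sq]
    group
  · rw [map_mul, hk', hl', show X * ιN m * X * (X * ιN n * X) = X * ιN m * (X * X) * ιN n * X by group, hX,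
      map_mul]
    group

theorem Ed.inv {X : G} (hX : X * X = 1) {n : N1} (hn : Ed ιN X n) : Ed ιN X n⁻¹ := by
  obtain ⟨k, hk, hk'⟩ := hn
  have eX : X⁻¹ = X := inv_eq_of_mul_eq_one_right hX
  have exB : xB⁻¹ = xB := inv_eq_of_mul_eq_one_right xB_sq
  refine ⟨k⁻¹, ?_, ?_⟩
  · rw [Subgroup.coe_inv, hk, mul_inv_rev, mul_inv_rev, exB, Subgroup.coe_inv, mul_assoc]
  · rw [map_inv, hk', mul_inv_rev, mul_inv_rev, eX, map_inv, mul_assoc]

theorem eq_of_relation {K : Type*} [Group K] {X Y F A : K} (hX : X * X = 1) (hY : Y * Y = 1)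
    (cF : Commute (X⁻¹ * Y) F) (dd : X⁻¹ * Y * (X⁻¹ * Y) = 1) (e1 : X = F * X * F * X * A)
    (e2 : Y = F * Y * F * Y * A) : Y = X := by
  obtain ⟨δ, hδ⟩ : ∃ δ, X⁻¹ * Y = δ := ⟨_, rfl⟩
  rw [hδ] at cF dd
  have hYδ : Y = X * δ := by rw [← hδ, mul_inv_cancel_left]
  have cX : δ * X = X * δ := by
    have : X * δ * (X * δ) = 1 := by rw [← hYδ]; exact hY
    calc δ * X = X * (X * δ * (X * δ)) * δ := by
          rw [show X * (X * δ * (X * δ)) * δ = X * X * δ * X * (δ * δ) by group, hX, dd]; group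
      _ = X * δ := by rw [this, mul_one]
  calc Y = F * (X * δ) * F * (X * δ) * A := by rw [← hYδ]; exact e2
    _ = F * X * (δ * F) * X * δ * A := by group
    _ = F * X * F * (δ * X) * δ * A := by rw [cF.eq]; group
    _ = F * X * F * X * (δ * δ) * A := by rw [cX]; group
    _ = X := by rw [dd, mul_one]; exact e1.symm

theorem conj_rel {K : Type*} [Group K] {n x f a : K} (hx : x * n = n * x) (h : x = f * x * f * x * a) :
    x = (n * f * n⁻¹) * x * (n * f * n⁻¹) * x * (n * a * n⁻¹) := by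
  have e : n * x * n⁻¹ = x := by rw [← hx, mul_inv_cancel_right]
  calc x = n * x * n⁻¹ := e.symm
    _ = n * (f * x * f * x * a) * n⁻¹ := by rw [← h]
    _ = (n * f * n⁻¹) * (n * x * n⁻¹) * (n * f * n⁻¹) * (n * x * n⁻¹) * (n * a * n⁻¹) := by group
    _ = _ := by rw [e]

section glue

variable (h : Glue z ιN ιC)
include h

omit h in
theorem X_sq : ιC xC * ιC xC = 1 := by
  rw [← map_mul, show xC * xC = 1 from Subtype.ext xB_sq, map_one]

theorem ed_C1 (n : N1) (hC : (n : Spor.Co1) ∈ C1) (hN : xB * n * xB ∈ N1) : Ed ιN (ιC xC) n := by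
  refine ⟨⟨_, hN⟩, rfl, ?_⟩
  have hC' : xB * n * xB ∈ C1 := mul_mem (mul_mem xB_C1 hC) xB_C1
  have e : ιN n = ιC ⟨n, hC⟩ := h.agree n n.2 hC
  rw [h.agree _ hN hC', e, ← map_mul, ← map_mul]
  rfl

omit [Group G] h in
theorem sep_conj {m : ℕ} (hm : m ∈ sepOctads) (hc : inCode m = true) :
    xB * Frame.bar (flip (setOfMask m) (isCode_setOfMask hc)) * xB ∈ N1 := by
  have key : (sepOctads.all fun m => (List.range 24).all fun i => (List.range 24).any fun k =>
      decide (appWord [.sext sextCode, .sign m, .sext sextCode] (Co1Mult.Words.axisL i) = Co1Mult.Words.axisL k) ||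
      decide (appWord [.sext sextCode, .sign m, .sext sextCode] (Co1Mult.Words.axisL i) =
        (Co1Mult.Words.axisL k).map fun x => -x)) = true := by decide +kernel
  have := List.all_eq_true.1 key m hm
  have hw : ([Op.sext sextCode, .sign m, .sext sextCode].all Op.ok) = true := by
    have h1 := xi_ok
    simp only [List.all_cons, List.all_nil, Bool.and_true] at h1
    simp only [List.all_cons, List.all_nil, Bool.and_true, h1, Bool.true_and]
    exact hc
  have hel : wordElt [Op.sext sextCode, .sign m, .sext sextCode] = xi * flip (setOfMask m) (isCode_setOfMask hc) * xi := by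
    rw [mul_assoc]
    simp only [xi, wordElt, List.map_cons, List.map_nil, List.prod_cons, List.prod_nil, mul_one]
    rw [show (Op.sign m).elt = flip (setOfMask m) (isCode_setOfMask hc) from dif_pos hc]
  rw [xB, ← map_mul, ← map_mul, ← hel]
  refine ⟨_, ?_, rfl⟩
  intro i
  have e := this
  simp only [List.all_eq_true, List.any_eq_true, List.mem_range, decide_eq_true_eq, Bool.or_eq_true] at e
  obtain ⟨k, hk, hk'⟩ := e _ (idx_lt i)
  refine ⟨pt k, ?_⟩
  rcases hk' with hk' | hk'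
  · left; apply lv_injective
    rw [lv_word hw, ← pt_idx i, Co1Mult.Words.lv_eightE (idx_lt i), hk', Co1Mult.Words.lv_eightE hk]
  · right; apply lv_injective
    rw [lv_word hw, ← pt_idx i, Co1Mult.Words.lv_eightE (idx_lt i), hk', lv_neg,
      Co1Mult.Words.lv_eightE hk]

theorem rel_conj (n : N1) (hx : xB * n = n * xB) (hdC : ∀ d ∈ Frame.diagBar, d ∈ C1)
    (hdiag : ∀ d ∈ Frame.diagBar, (n : Spor.Co1) * d * (n : Spor.Co1)⁻¹ ∈ Frame.diagBar)
    {f a : Spor.Co1} {hfN : f ∈ N1} (hfd : f ∈ Frame.diagBar) (_haC : a ∈ C1) (haN : a ∈ N1)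
    (hrel : xB = f * xB * f * xB * a) :
    (ιN n)⁻¹ * ιC xC * ιN n = ιN ⟨f, hfN⟩ * ((ιN n)⁻¹ * ιC xC * ιN n) * ιN ⟨f, hfN⟩ *
      ((ιN n)⁻¹ * ιC xC * ιN n) * ιN ⟨a, haN⟩ := by
  have hrel' := conj_rel hx hrel
  set F' : N1 := n * ⟨f, hfN⟩ * n⁻¹ with hF'
  set A' : N1 := n * ⟨a, haN⟩ * n⁻¹ with hA'
  have cF : (F' : Spor.Co1) = (n : Spor.Co1) * f * (n : Spor.Co1)⁻¹ := by rw [hF']; rfl
  have cA : (A' : Spor.Co1) = (n : Spor.Co1) * a * (n : Spor.Co1)⁻¹ := by rw [hA']; rfl
  rw [← cF, ← cA] at hrel'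
  have hfC : (F' : Spor.Co1) ∈ C1 := by rw [cF]; exact hdC _ (hdiag f hfd)
  have haC' : (A' : Spor.Co1) ∈ C1 := by
    rw [show (A' : Spor.Co1) = ((F' : Spor.Co1) * xB * F' * xB)⁻¹ * xB from eq_inv_mul_iff_mul_eq.2 hrel'.symm]
    exact mul_mem (inv_mem (mul_mem (mul_mem (mul_mem hfC xB_C1) hfC) xB_C1)) xB_C1
  have e : ιC xC = ιN F' * ιC xC * ιN F' * ιC xC * ιN A' := by
    have eF : ιN F' = ιC ⟨F', hfC⟩ := h.agree _ F'.2 hfC
    have eA : ιN A' = ιC ⟨A', haC'⟩ := h.agree _ A'.2 haC'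
    have ee : xC = ⟨F', hfC⟩ * xC * ⟨F', hfC⟩ * xC * ⟨A', haC'⟩ := Subtype.ext hrel'
    conv_lhs => rw [ee]
    simp only [map_mul, eF, eA]
  have e3 : ιN F' = ιN n * ιN ⟨f, hfN⟩ * (ιN n)⁻¹ := by rw [hF', map_mul, map_mul, map_inv]
  have e4 : ιN A' = ιN n * ιN ⟨a, haN⟩ * (ιN n)⁻¹ := by rw [hA', map_mul, map_mul, map_inv]
  rw [e3, e4] at e
  revert e
  generalize ιC xC = X
  generalize ιN n = m
  generalize ιN ⟨f, hfN⟩ = F
  generalize ιN ⟨a, haN⟩ = A
  intro e
  conv_lhs => rw [e]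
  group

/-- A permutation commuting with the sextet element satisfies the relation. -/
theorem ed_special (n : N1) (hx : xB * n = n * xB) (hdiag : ∀ d ∈ Frame.diagBar, (n : Spor.Co1) * d * (n : Spor.Co1)⁻¹ ∈ Frame.diagBar) :
    Ed ιN (ιC xC) n := by
  set X := ιC xC with hX
  set Y := (ιN n)⁻¹ * X * ιN n with hY
  have hdN : ∀ d ∈ Frame.diagBar, d ∈ N1 := by
    rintro _ ⟨g, hg, rfl⟩
    exact ⟨g, Frame.diag_le_cross hg, rfl⟩
  have hdC : ∀ d ∈ Frame.diagBar, d ∈ C1 := fun d hd =>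
    Subgroup.mem_centralizer_singleton_iff.2 (Frame.diagBar_comm hd
      ⟨_, Frame.flip_mem_diag _ Co2Cent.off_compl.1, rfl⟩)
  have hz : (n : Spor.Co1) * z1 * (n : Spor.Co1)⁻¹ ∈ Frame.diagBar :=
    hdiag _ ⟨_, Frame.flip_mem_diag _ Co2Cent.off_compl.1, rfl⟩
  -- `Y` centralises `z`
  have hYz : Y ∈ Subgroup.centralizer ({z} : Set G) := by
    have e : z = ιN ⟨z1, z1_N1⟩ := by
      rw [h.agree z1 z1_N1 (hdC _ ⟨_, Frame.flip_mem_diag _ Co2Cent.off_compl.1, rfl⟩), h.map_z]
    have ex : xB * ((n : Spor.Co1) * z1 * (n : Spor.Co1)⁻¹) = ((n : Spor.Co1) * z1 * (n : Spor.Co1)⁻¹) * xB := by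
      calc xB * ((n : Spor.Co1) * z1 * (n : Spor.Co1)⁻¹) = (n : Spor.Co1) * (xB * z1) * (n : Spor.Co1)⁻¹ := by
            rw [← mul_assoc, ← mul_assoc, hx]; group
        _ = (n : Spor.Co1) * (z1 * xB) * (n : Spor.Co1)⁻¹ := by rw [Subgroup.mem_centralizer_singleton_iff.1 xB_C1]
        _ = (n : Spor.Co1) * z1 * (n : Spor.Co1)⁻¹ * (xB * n) * (n : Spor.Co1)⁻¹ := by rw [hx]; group
        _ = _ := by group
    have e2 : Commute X (ιN n * z * (ιN n)⁻¹) := by
      rw [e, ← map_inv, ← map_mul, ← map_mul]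
      have := h.agree _ (n * ⟨z1, z1_N1⟩ * n⁻¹).2 (hdC _ hz)
      rw [show (⟨_, (n * ⟨z1, z1_N1⟩ * n⁻¹).2⟩ : N1) = n * ⟨z1, z1_N1⟩ * n⁻¹ from rfl] at this
      rw [this]
      exact Commute.map (show Commute xC ⟨_, hdC _ hz⟩ from Subtype.ext ex) ιC
    rw [Subgroup.mem_centralizer_singleton_iff]
    calc Y * z = (ιN n)⁻¹ * (X * (ιN n * z * (ιN n)⁻¹)) * ιN n := by rw [hY]; group
      _ = (ιN n)⁻¹ * ((ιN n * z * (ιN n)⁻¹) * X) * ιN n := by rw [e2.eq]
      _ = z * Y := by rw [hY]; group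
  have hXr : X ∈ ιC.range := ⟨_, rfl⟩
  have hδ : X⁻¹ * Y ∈ ιC.range := mul_mem (inv_mem hXr) (h.rangeC ▸ hYz)
  obtain ⟨d, hd⟩ := hδ
  -- it commutes with the separating sign changes
  have hdd : (d : Spor.Co1) ∈ Frame.diagBar := by
    refine mem_diagBar fun m hm hc => ?_
    set f := Frame.bar (flip (setOfMask m) (isCode_setOfMask hc)) with hf
    have hfd : f ∈ Frame.diagBar := ⟨_, Frame.flip_mem_diag _ _, rfl⟩
    obtain ⟨k, hk, hkX⟩ := ed_C1 h ⟨f, hdN f hfd⟩ (hdC f hfd) (sep_conj hm hc)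
    set f' := (n : Spor.Co1) * f * (n : Spor.Co1)⁻¹ with hf'
    have hxi : (n : Spor.Co1)⁻¹ * xB = xB * (n : Spor.Co1)⁻¹ :=
      inv_mul_eq_iff_eq_mul.2 (by rw [← mul_assoc, ← hx, mul_inv_cancel_right])
    have econj : xB * f' * xB = (n : Spor.Co1) * (xB * f * xB) * (n : Spor.Co1)⁻¹ := by
      calc xB * f' * xB = xB * n * f * ((n : Spor.Co1)⁻¹ * xB) := by rw [hf']; group
        _ = (n : Spor.Co1) * xB * f * (xB * (n : Spor.Co1)⁻¹) := by rw [hx, hxi]
        _ = _ := by group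
    have hk2 : xB * f' * xB ∈ N1 := by
      rw [econj]
      exact mul_mem (mul_mem n.2 (sep_conj hm hc)) (inv_mem n.2)
    obtain ⟨k2, hk2', hkY⟩ := ed_C1 h (n * ⟨f, hdN f hfd⟩ * n⁻¹) (hdC _ (hdiag f hfd)) hk2
    have ek : k2 = n * k * n⁻¹ := by
      apply Subtype.ext
      rw [hk2']
      simp only [Subgroup.coe_mul, Subgroup.coe_inv, hk]
      exact econj
    rw [ek, map_mul, map_mul, map_inv, map_mul, map_mul, map_inv] at hkY
    have hY2 : Y * ιN ⟨f, hdN f hfd⟩ * Y = ιN k := by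
      calc Y * ιN ⟨f, hdN f hfd⟩ * Y = (ιN n)⁻¹ * (X * (ιN n * ιN ⟨f, hdN f hfd⟩ * (ιN n)⁻¹) * X) * ιN n := by
            rw [hY]; group
        _ = (ιN n)⁻¹ * (ιN n * ιN k * (ιN n)⁻¹) * ιN n := by rw [hkY]
        _ = ιN k := by group
    have hYY : Y * Y = 1 := by
      calc Y * Y = (ιN n)⁻¹ * (X * X) * ιN n := by rw [hY]; group
        _ = 1 := by rw [X_sq (ιC := ιC)]; group
    have eX : X⁻¹ = X := inv_eq_of_mul_eq_one_right (X_sq)
    have comm : Commute (X⁻¹ * Y) (ιN ⟨f, hdN f hfd⟩) := by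
      show X⁻¹ * Y * ιN ⟨f, hdN f hfd⟩ = ιN ⟨f, hdN f hfd⟩ * (X⁻¹ * Y)
      rw [eX]
      calc X * Y * ιN ⟨f, hdN f hfd⟩ = X * (Y * ιN ⟨f, hdN f hfd⟩ * Y) * Y := by
            rw [show X * (Y * ιN ⟨f, hdN f hfd⟩ * Y) * Y = X * Y * ιN ⟨f, hdN f hfd⟩ * (Y * Y) by group, hYY,
              mul_one]
        _ = X * (X * ιN ⟨f, hdN f hfd⟩ * X) * Y := by rw [hY2, hkX]
        _ = (X * X) * ιN ⟨f, hdN f hfd⟩ * (X * Y) := by group
        _ = ιN ⟨f, hdN f hfd⟩ * (X * Y) := by rw [X_sq, one_mul]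
    rw [← hd, h.agree f (hdN f hfd) (hdC f hfd)] at comm
    have : Commute d ⟨f, hdC f hfd⟩ := h.injC (by rw [map_mul, map_mul]; exact comm.eq)
    exact congrArg Subtype.val this.eq
  -- it cancels in the relation of even length
  obtain ⟨f, hfd, a, haC, haN, hrel⟩ : ∃ f, f ∈ Frame.diagBar ∧ ∃ a, a ∈ C1 ∧ a ∈ N1 ∧ xB = f * xB * f * xB * a := by
    have hc : inCode flipMask = true := by decide +kernel
    refine ⟨Frame.bar (flip (setOfMask flipMask) (isCode_setOfMask hc)), ⟨_, Frame.flip_mem_diag _ _, rfl⟩,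
      Frame.bar (wordElt (monW flipTail.1 flipTail.2.1 flipTail.2.2)), ?_, ⟨_, monW_mem_cross _ _ _, rfl⟩, ?_⟩
    · refine Subgroup.mem_centralizer_singleton_iff.2 ?_
      rw [z1, ← map_mul, ← map_mul, t0_eq, ← wordElt_append, ← wordElt_append]
      exact congrArg Frame.bar (eq_of_eqW (by decide +kernel))
    · rw [xB, ← map_mul, ← map_mul, ← map_mul, ← map_mul]
      refine congrArg Frame.bar ?_
      rw [show flip (setOfMask flipMask) (isCode_setOfMask hc) = wordElt [.sign flipMask] by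
        rw [wordElt, List.map_singleton, List.prod_singleton, Op.elt, dif_pos hc], xi,
        ← wordElt_append, ← wordElt_append, ← wordElt_append, ← wordElt_append]
      exact eq_of_eqW (by decide +kernel)
  set Fd : N1 := ⟨f, hdN f hfd⟩ with hFd
  set Ad : N1 := ⟨a, haN⟩ with hAd
  have e1 : X = ιN Fd * X * ιN Fd * X * ιN Ad := by
    rw [hFd, hAd, h.agree f _ (hdC f hfd), h.agree a _ haC, hX, ← map_mul, ← map_mul, ← map_mul, ← map_mul]
    exact congrArg ιC (Subtype.ext hrel)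
  have e2 : Y = ιN Fd * Y * ιN Fd * Y * ιN Ad := rel_conj h n hx hdC hdiag hfd haC haN hrel
  have hδN : X⁻¹ * Y = ιN ⟨d, hdN _ hdd⟩ := by rw [← hd, h.agree _ (hdN _ hdd) d.2]
  have hYY : Y * Y = 1 := by
    calc Y * Y = (ιN n)⁻¹ * (X * X) * ιN n := by rw [hY]; group
      _ = 1 := by rw [X_sq (ιC := ιC)]; group
  have key : Y = X := by
    refine eq_of_relation (X_sq (ιC := ιC)) hYY ?_ ?_ e1 e2
    · rw [hδN]
      exact Commute.map (show Commute _ Fd from Subtype.ext (Frame.diagBar_comm hdd hfd)) ιN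
    · rw [hδN, ← map_mul, show (⟨d, hdN _ hdd⟩ : N1) * ⟨d, hdN _ hdd⟩ = 1 from
        Subtype.ext (Frame.diagBar_elem hdd), map_one]
  refine ⟨n, ?_, ?_⟩
  · rw [hx, mul_assoc, xB_sq, mul_one]
  · calc ιN n = ιN n * (Y * X) := by rw [key, X_sq, mul_one]
      _ = X * ιN n * X := by rw [hY]; group

omit [Group G] h in
theorem setOfMask_inj_tets : ∀ a < 6, ∀ b < 6, setOfMask (tets.getD a 0) = setOfMask (tets.getD b 0) → a = b := by
  decide +kernel

omit [Group G] h in
theorem permHom_diag (σ : M24) :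
    ∀ d ∈ Frame.diagBar, Frame.permBar σ * d * (Frame.permBar σ)⁻¹ ∈ Frame.diagBar := by
  rintro _ ⟨g, hg, rfl⟩
  refine ⟨_, Frame.cross_conj_diag (Frame.permHom_mem_cross σ) hg, ?_⟩
  rw [map_mul, map_mul, map_inv]
  rfl

/-- The coded permutations satisfy the relation. -/
theorem ed_gens : ∀ k < 3, ∃ hq : gperm (edgePerms.getD k (0, 0)).1 ∈ M24,
    Ed ιN (ιC xC) (permN ⟨_, hq⟩) := by
  intro k hk
  have hok : ∀ k < 3, ([Op.perm (edgePerms.getD k (0, 0)).1 (edgePerms.getD k (0, 0)).2].all Op.ok) = true := by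
    decide +kernel
  obtain ⟨q, qi, hq⟩ : ∃ q qi, edgePerms.getD k (0, 0) = (q, qi) := ⟨_, _, rfl⟩
  have h0 := hok k hk
  rw [hq] at h0 ⊢
  simp only [List.all_cons, List.all_nil, Bool.and_true] at h0
  have hm : gperm q ∈ M24 := gperm_mem_M24 (by simp only [Op.ok, Bool.and_eq_true] at h0; exact h0.1.1)
  refine ⟨hm, ?_⟩
  have hel : Frame.bar (wordElt [Op.perm q qi]) = Frame.permBar ⟨gperm q, hm⟩ := by
    rw [wordElt, List.map_singleton, List.prod_singleton, Op.elt, dif_pos h0]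
    rfl
  interval_cases k
  · simp only [edgePerms, List.getD_cons_zero, Prod.mk.injEq] at hq
    obtain ⟨rfl, rfl⟩ := hq
    refine ed_special h _ ?_ (permHom_diag _)
    show xB * Frame.permBar _ = Frame.permBar _ * xB
    rw [← hel, xB, ← map_mul, ← map_mul, xi, ← wordElt_append, ← wordElt_append]
    exact congrArg Frame.bar (eq_of_eqW (by decide +kernel))
  · simp only [edgePerms, List.getD_cons_succ, List.getD_cons_zero, Prod.mk.injEq] at hq
    obtain ⟨rfl, rfl⟩ := hq
    refine ed_special h _ ?_ (permHom_diag _)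
    show xB * Frame.permBar _ = Frame.permBar _ * xB
    rw [← hel, xB, ← map_mul, ← map_mul, xi, ← wordElt_append, ← wordElt_append]
    exact congrArg Frame.bar (eq_of_eqW (by decide +kernel))
  · simp only [edgePerms, List.getD_cons_succ, List.getD_cons_zero, Prod.mk.injEq] at hq
    obtain ⟨rfl, rfl⟩ := hq
    refine ed_C1 h _ ?_ ?_
    · refine Subgroup.mem_centralizer_singleton_iff.2 ?_
      show Frame.permBar _ * z1 = z1 * Frame.permBar _
      rw [← hel, z1, t0_eq, ← map_mul, ← map_mul, ← wordElt_append, ← wordElt_append]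
      exact congrArg Frame.bar (eq_of_eqW (by decide +kernel))
    · show xB * Frame.permBar _ * xB ∈ N1
      rw [← hel, xB, ← map_mul, ← map_mul]
      refine ⟨_, conj_mem_cross ?_, rfl⟩
      have hm' := maps_monW (c := 0) (q := (edgePerms.getD 2 (0, 0)).1) (qi := (edgePerms.getD 2 (0, 0)).2)
        (s := tets) (p := 1) (s' := tets) (p' := 1) (by decide +kernel) (by decide +kernel)
      intro v
      rw [← hm' v]
      simp only [monW, wordElt, edgePerms, List.getD_cons_succ, List.getD_cons_zero, List.map_cons, List.map_nil, List.prod_cons, List.prod_nil, mul_one]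
      rw [show (Op.sign 0).elt = 1 from co0_ext fun i => lv_injective (by
        rw [lv_op (by decide +kernel), one_smul]
        simp only [Op.app, Nat.zero_testBit, Bool.false_eq_true, if_false]
        exact (lv_eq_map fun k hk => (ent_lv _ hk).symm).symm), one_mul]

omit [Group G] h in
theorem words_ok : ∀ a < 6, ∀ b < 6, a ≠ b →
    (edgeWords.getD (5 * a + (if b < a then b else b - 1)) []).all (fun k => decide (k < 3)) = true ∧
    permMask ((edgeWords.getD (5 * a + (if b < a then b else b - 1)) []).foldr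
      (fun k q => mulP 24 5 (edgePerms.getD k (0, 0)).1 q) oneCode) octMask = tets.getD a 0 ||| tets.getD b 0 := by
  decide +kernel

/-- Products of the coded permutations satisfy the relation. -/
theorem ed_word : ∀ w : List ℕ, w.all (fun k => decide (k < 3)) = true →
    okCode (w.foldr (fun k q => mulP 24 5 (edgePerms.getD k (0, 0)).1 q) oneCode) = true ∧
    ∃ hq : gperm (w.foldr (fun k q => mulP 24 5 (edgePerms.getD k (0, 0)).1 q) oneCode) ∈ M24,
      Ed ιN (ιC xC) (permN ⟨_, hq⟩)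
  | [], _ => by
    have hq : gperm oneCode ∈ M24 := by rw [gperm_oneCode]; exact one_mem _
    refine ⟨okCode_oneCode, hq, ?_⟩
    show Ed ιN (ιC xC) (permN ⟨gperm oneCode, hq⟩)
    rw [show (⟨gperm oneCode, hq⟩ : M24) = 1 from Subtype.ext gperm_oneCode, map_one]
    exact ⟨1, by rw [Subgroup.coe_one, mul_one, xB_sq], by rw [map_one, mul_one, X_sq (ιC := ιC)]⟩
  | k :: w, hw => by
    simp only [List.all_cons, Bool.and_eq_true, decide_eq_true_eq] at hw
    obtain ⟨hok, hq, hE⟩ := ed_word w hw.2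
    obtain ⟨hk, hkE⟩ := ed_gens h k hw.1
    have hok' : okCode (edgePerms.getD k (0, 0)).1 = true := by
      have : ∀ k < 3, okCode (edgePerms.getD k (0, 0)).1 = true := by decide +kernel
      exact this k hw.1
    have e := gperm_mul hok' hok
    have hm : gperm (List.foldr (fun k q => mulP 24 5 (edgePerms.getD k (0, 0)).1 q) oneCode (k :: w)) ∈ M24 := by
      rw [List.foldr_cons, e]; exact mul_mem hk hq
    refine ⟨okCode_mulP hok' hok, hm, ?_⟩
    have := hkE.mul (X_sq (ιC := ιC)) hE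
    rw [← map_mul] at this
    rwa [show (⟨_, hm⟩ : M24) = ⟨_, hk⟩ * ⟨_, hq⟩ from Subtype.ext e]

omit [Group G] h in
theorem supp_unique {m m' : ℕ} {L : List ℤ} (h1 : Supp m L) (h2 : Supp m' L) {i : ℕ} (hi : i < 24) :
    m.testBit i = m'.testBit i := by
  have a := h1 i hi
  have b := h2 i hi
  cases hm : m.testBit i <;> cases hm' : m'.testBit i <;> rw [hm] at a <;> rw [hm'] at b <;>
    simp at a b ⊢ <;> omega

/-- The relation holds on the whole intersection. -/
theorem edge (n : N1) (hn : xB * n * xB ∈ N1) : Ed ιN (ιC xC) n := by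
  obtain ⟨g, hg, hgn⟩ := n.2
  obtain ⟨σ, hσ, c, hc, rfl⟩ := exists_monomial hg
  have hk : xi * monomial σ hσ c hc * xi ∈ crossGroup := by
    refine bar_cross ?_
    rwa [map_mul, map_mul, hgn]
  -- the tetrads are permuted
  have himg : ∀ a < 6, ∃ b < 6, σ • setOfMask (tets.getD a 0) = setOfMask (tets.getD b 0) := by
    intro a ha
    have hp : ∀ a < 6, ∃ i < 24, fitB (axImg i) a = true := by decide +kernel
    obtain ⟨i, hi, hfi⟩ := hp a ha
    have hv : lv (xi • eightE (pt i)) = axImg i := lv_xi_axis hi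
    obtain ⟨j, hj⟩ := hk (pt i)
    obtain ⟨b, hb, hfb, -⟩ := axes_fitB _ (idx_lt j)
    refine ⟨b, hb, ?_⟩
    have hgv : monomial σ hσ c hc • (xi • eightE (pt i)) = xi • eightE j ∨
        monomial σ hσ c hc • (xi • eightE (pt i)) = -(xi • eightE j) := by
      rcases hj with e | e <;> [left; right] <;>
      · rw [mul_smul, mul_smul] at e
        have := congrArg (fun v => xi • v) e
        simp only [smul_neg', ← mul_smul, ← mul_assoc, xi_sq, one_mul] at this
        simpa only [mul_smul] using this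
    have hsa : Supp (tets.getD a 0) (lv (xi • eightE (pt i))) := by
      intro k hk'
      rw [hv]
      simp only [fitB, Bool.and_eq_true, List.all_eq_true, List.mem_range] at hfi
      have := hfi.1 k hk'
      cases hb : (tets.getD a 0).testBit k <;> rw [hb] at this <;> simpa using this
    have hsb : Supp (tets.getD b 0) (lv (monomial σ hσ c hc • (xi • eightE (pt i)))) := by
      intro k hk'
      simp only [fitB, Bool.and_eq_true, List.all_eq_true, List.mem_range] at hfb
      have := hfb.1 k hk'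
      have hjk : ent (lv (xi • eightE j)) k = ent (axImg (idx j)) k := by
        rw [← lv_xi_axis (idx_lt j), pt_idx]
      rw [← hjk] at this
      rcases hgv with e | e <;> rw [e]
      · cases hb' : (tets.getD b 0).testBit k <;> rw [hb'] at this <;> simpa using this
      · rw [ent_lv_neg _ hk']
        cases hb' : (tets.getD b 0).testBit k <;> rw [hb'] at this <;> simp at this ⊢ <;> omega
    ext p
    rw [mem_setOfMask, Finset.mem_smul_finset]
    have hval : ∀ q, vec (monomial σ hσ c hc • (xi • eightE (pt i))) (σ q) =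
        if σ q ∈ c then -vec (xi • eightE (pt i)) q else vec (xi • eightE (pt i)) q := by
      intro q
      rw [monomial_smul]
      simp [signedPerm, vec]
    constructor
    · rintro ⟨q, hq, rfl⟩
      rw [mem_setOfMask] at hq
      rw [Equiv.Perm.smul_def]
      by_contra hne
      have h1 := hsa _ (idx_lt q)
      have h2 := hsb _ (idx_lt (σ q))
      rw [hq] at h1
      rw [Bool.eq_false_iff.2 hne] at h2
      simp only [if_true, Bool.false_eq_true, if_false, ent_lv _ (idx_lt _), pt_idx] at h1 h2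
      rw [hval] at h2
      split_ifs at h2 <;> omega
    · intro hp'
      refine ⟨σ.symm p, mem_setOfMask.2 ?_, σ.apply_symm_apply p⟩
      by_contra hne
      have h1 := hsa _ (idx_lt (σ.symm p))
      have h2 := hsb _ (idx_lt p)
      rw [hp'] at h2
      rw [Bool.eq_false_iff.2 hne] at h1
      simp only [if_true, Bool.false_eq_true, if_false, ent_lv _ (idx_lt _), pt_idx] at h1 h2
      have h3 := hval (σ.symm p)
      rw [σ.apply_symm_apply] at h3
      rw [h3, h1] at h2
      simp at h2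
  obtain ⟨a, ha, ea⟩ := himg 0 (by norm_num)
  obtain ⟨b, hb, eb⟩ := himg 1 (by norm_num)
  have hab : a ≠ b := by
    rintro rfl
    exact absurd (setOfMask_inj_tets 0 (by norm_num) 1 (by norm_num) (smul_left_cancel σ (ea.trans eb.symm)))
      (by norm_num)
  obtain ⟨hw, hwm⟩ := words_ok a ha b hb hab
  obtain ⟨hok, hq, hE⟩ := ed_word h _ hw
  set q := (edgeWords.getD (5 * a + (if b < a then b else b - 1)) []).foldr
      (fun k q => mulP 24 5 (edgePerms.getD k (0, 0)).1 q) oneCode with hqdef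
  have hOu : setOfMask (tets.getD 0 0 ||| tets.getD 1 0) = Co2Cent.oct := by decide +kernel
  have hor : ∀ m m', setOfMask (m ||| m') = setOfMask m ∪ setOfMask m' := fun m m' => by
    ext p; simp [mem_setOfMask]
  have hoct : gperm q • Co2Cent.oct = σ • Co2Cent.oct := by
    rw [← octMask_set.1, smul_setOfMask hok, hwm, octMask_set.1, ← hOu, hor, hor, Finset.smul_finset_union,
      ea, eb]
  set k : N1 := permN ⟨gperm q, hq⟩ with hkdef
  have hC : ((k⁻¹ * n : N1) : Spor.Co1) ∈ C1 := by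
    refine Subgroup.mem_centralizer_singleton_iff.2 ?_
    rw [Subgroup.coe_mul, Subgroup.coe_inv, hkdef]
    show (Frame.permBar ⟨gperm q, hq⟩)⁻¹ * (n : Spor.Co1) * z1 = z1 * ((Frame.permBar ⟨gperm q, hq⟩)⁻¹ * n)
    rw [show (n : Spor.Co1) = Frame.bar (monomial σ hσ c hc) from hgn.symm,
      show Frame.permBar ⟨gperm q, hq⟩ = Frame.bar (permHom ⟨gperm q, hq⟩) from rfl, z1, ← map_inv, ← map_mul,
      ← map_mul, ← map_mul]
    refine congrArg Frame.bar (co0_ext fun i => ?_)
    have hτ : ∀ i, monomial σ hσ c hc • eightE i = eightE (σ i) ∨ monomial σ hσ c hc • eightE i = -eightE (σ i) := by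
      intro i
      rw [monomial_apply_eightE]
      split_ifs <;> simp
    have ht0 : ∀ i, Co2Cent.t0 • eightE i = if i ∈ Co2Cent.octᶜ then -eightE i else eightE i := fun i => by
      show monomial 1 (one_mem _) Co2Cent.octᶜ Co2Cent.off_compl.1 • eightE i = _
      rw [monomial_apply_eightE, Equiv.Perm.one_apply]
    have hinv : ∀ i, (permHom ⟨gperm q, hq⟩)⁻¹ • eightE i = eightE ((gperm q)⁻¹ i) := fun i => by
      rw [← map_inv, permHom_eightE]
      rfl
    have hmem : ((gperm q)⁻¹ (σ i) ∈ Co2Cent.oct ↔ i ∈ Co2Cent.oct) := by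
      rw [← Equiv.Perm.smul_def (gperm q)⁻¹, Finset.inv_smul_mem_iff, hoct]
      exact Finset.smul_mem_smul_finset_iff σ
    simp only [mul_smul, ht0, Finset.mem_compl]
    rcases hτ i with e | e <;> by_cases hi : i ∈ Co2Cent.oct <;>
      simp only [hi, not_true, not_false_iff, if_true, if_false, smul_neg', e, hinv, ht0, Finset.mem_compl,
        hmem.not.2, hmem.2, neg_neg]
  obtain ⟨k', hk', -⟩ := hE
  have hN : xB * ((k⁻¹ * n : N1) : Spor.Co1) * xB ∈ N1 := by
    rw [Subgroup.coe_mul, Subgroup.coe_inv, show xB * ((k : Spor.Co1)⁻¹ * n) * xB =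
      (xB * k * xB)⁻¹ * (xB * n * xB) by rw [mul_inv_rev, mul_inv_rev, inv_eq_of_mul_eq_one_right xB_sq];
                                         simp only [mul_assoc]; rw [← mul_assoc xB xB, xB_sq, one_mul],
      ← hk']
    exact mul_mem (inv_mem k'.2) hn
  have := Ed.mul (X_sq (ιC := ιC)) (n := k⁻¹ * n) (ed_word h _ hw).2.2 (ed_C1 h _ hC hN)
  rwa [← hkdef, mul_inv_cancel_left] at this

end glue

end Cfsg.Agent.Lib.Co1Uniq31
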